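import Groth.Agent.AbSiteDerLib.TruncLim
import Groth.Prelude.Def_CohTop

/-!
# Cohomology over an object without higher cohomology
-/

set_option linter.unusedSectionVars false
set_option linter.style.haveILetI false
set_option backward.isDefEq.respectTransparency false

universe w u

open CategoryTheory Limits Pretriangulated DerivedCategory DerivedCategory.TStructure
open Opposite (op unop)

namespace Groth.Agent.AbSiteDerLib

variable {C : Type u} [SmallCategory C] {J : GrothendieckTopology C}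
  [HasDerivedCategory.{w} (Sheaf J AddCommGrpCat.{u})]

/-- Composition with a map inducing a bijection, as an additive equivalence. -/
noncomputable def homEquivOfGenBij {L L' : DerivedCategory (Sheaf J AddCommGrpCat.{u})} (a : L ⟶ L')
    {j : ℤ} {Y : C} (h : GenBij a j Y) : (dgen J Y j ⟶ L) ≃+ (dgen J Y j ⟶ L') :=
  AddEquiv.ofBijective (AddMonoidHom.mk' (fun x => x ≫ a) fun _ _ => Preadditive.add_comp _ _ _ _ _ _) h

/-- Sections of a sheaf as maps in the derived category. -/
noncomputable def dgenSingleEquiv (M : Sheaf J AddCommGrpCat.{u}) (Y : C) (j : ℤ) :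
    (dgen J Y j ⟶ (singleFunctor (Sheaf J AddCommGrpCat.{u}) j).obj M) ≃+ M.obj.obj (op Y) :=
  (AddEquiv.ofBijective ((singleFunctor (Sheaf J AddCommGrpCat.{u}) j).mapAddHom
      (X := freeAb J Y) (Y := M))
    ⟨(singleFunctor (Sheaf J AddCommGrpCat.{u}) j).map_injective,
      (singleFunctor (Sheaf J AddCommGrpCat.{u}) j).map_surjective⟩).symm.trans
  { toEquiv := fsEquiv M Y
    map_add' := fun a b => by
      change fsEquiv M Y (a + b) = fsEquiv M Y a + fsEquiv M Y b
      rw [← Category.id_comp (a + b), ← Category.id_comp a, ← Category.id_comp b]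
      rw [secEquiv_comp', secEquiv_comp', secEquiv_comp', Category.id_comp, Category.id_comp]
      rfl }

/-- For a bounded below object without higher cohomology over `Y`, maps out of the free sheaf are
sections of the cohomology sheaf. -/
theorem nonempty_dgen_equiv (Y : C) (j a : ℤ) (X : DerivedCategory (Sheaf J AddCommGrpCat.{u}))
    [X.IsGE a] (h : ∀ (m : ℤ) (k : ℕ), 0 < k →
      Subsingleton (CohSite.HU ((homologyFunctor (Sheaf J AddCommGrpCat.{u}) m).obj X) k Y)) :
    Nonempty ((dgen J Y j ⟶ X) ≃+ ((homologyFunctor (Sheaf J AddCommGrpCat.{u}) j).obj X).obj.obj (op Y)) := by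
  let H := fun m => homologyFunctor (Sheaf J AddCommGrpCat.{u}) m
  let T := (t.triangleLTGE j).obj X
  have hT : T.rotate ∈ distTriang _ := rot_of_distTriang _ (t.triangleLTGE_distinguished j X)
  let X₁ := (t.truncGE j).obj X
  let π : X ⟶ X₁ := (t.truncGEπ j).app X
  let Z := ((t.truncLT j).obj X)⟦(1 : ℤ)⟧
  haveI : X₁.IsGE j := inferInstance
  have hiso : ∀ m, j ≤ m → IsIso ((H m).map π) := fun m hm =>
    ModCohLib.isIso_homology_truncGEπ X j m hm
  have exZ := fun m => HomologySequence.exact₃ T.rotate hT m (m + 1) rfl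
  have hZ0 : ∀ m, j - 1 ≤ m → IsZero ((H m).obj Z) := fun m hm => by
    haveI : ((t.truncLT j).obj X).IsLE (j - 1) := inferInstance
    haveI : Z.IsLE (j - 2) := t.isLE_shift _ (j - 1) 1 (j - 2) (by omega)
    exact isZero_of_isLE Z (j - 2) m (by omega)
  have hZ : ∀ (m : ℤ) (k : ℕ), 0 < k → Subsingleton (CohSite.HU ((H m).obj Z) k Y) := fun m k hk => by
    by_cases hm : j - 1 ≤ m
    · exact subsingleton_HU_of_isZero (hZ0 m hm) k Y
    · have h1 : IsZero ((H m).obj X₁) := isZero_of_isGE X₁ j m (by omega)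
      haveI : Mono (HomologySequence.δ T.rotate m (m + 1) rfl) := (exZ m).mono_g (h1.eq_of_src _ _)
      haveI : Epi (HomologySequence.δ T.rotate m (m + 1) rfl) := by
        refine (HomologySequence.exact₁ T.rotate hT m (m + 1) rfl).epi_f ?_
        by_cases hm' : m + 1 < j
        · exact (isZero_of_isGE X₁ j (m + 1) hm').eq_of_tgt _ _
        · omega
      haveI : IsIso (HomologySequence.δ T.rotate m (m + 1) rfl) := isIso_of_mono_of_epi _
      exact subsingleton_HU_of_iso (asIso (HomologySequence.δ T.rotate m (m + 1) rfl)) k Y (h (m + 1) k hk)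
  haveI : Z.IsGE (a - 1 - max (a - j) 0) := by
    rw [isGE_iff]
    intro m hm
    refine (exZ m).isZero_of_both_zeros ((isZero_of_isGE X₁ j m (by omega)).eq_of_src _ _)
      ((isZero_of_isGE X a (m + 1) (by omega)).eq_of_tgt _ _)
  have vz : ∀ j', j - 1 ≤ j' → j' ≤ j → ∀ x : dgen J Y j' ⟶ Z, x = 0 := fun j' h0 h1 =>
    dgen_hom_eq_zero Y j' (a - 1 - max (a - j) 0) Z fun m k hk => by
      by_cases hm : j - 1 ≤ m
      · exact subsingleton_HU_of_isZero (hZ0 m hm) k Y
      · exact hZ m k (by omega)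
  have g1 : GenBij π j Y :=
    (genBij_of_triangle T.rotate hT Y j (vz j (by omega) le_rfl) (vz (j - 1) le_rfl (by omega))).1
  have hT₁ := t.triangleLEGT_distinguished j X₁
  haveI hG : ((t.triangleLEGT j).obj X₁).obj₃.IsGE (j + 1) :=
    inferInstanceAs (((t.truncGT j).obj X₁).IsGE (j + 1))
  haveI hG' : ((t.triangleLEGT j).obj X₁).obj₃.IsGE (j - 1 + 1) :=
    t.isGE_of_ge _ (j - 1 + 1) (j + 1) (by omega)
  have g2 : GenBij ((t.truncLEι j).app X₁) j Y :=
    (genBij_of_triangle _ hT₁ Y j (fun x => dgen_hom_eq_zero_of_isGE Y j _ x)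
      (fun x => dgen_hom_eq_zero_of_isGE Y (j - 1) _ x)).1
  haveI : ((t.truncLE j).obj X₁).IsGE j := by
    rw [isGE_iff]
    intro i hi
    haveI := DerLib.Devissage.isIso_homology_truncLEι X₁ j i (by omega)
    exact (isZero_of_isGE X₁ j i hi).of_iso
      (asIso ((homologyFunctor _ i).map ((t.truncLEι j).app X₁)))
  obtain ⟨e⟩ := DerLib.Devissage.nonempty_iso_single ((t.truncLE j).obj X₁) j
  haveI := hiso j le_rfl
  haveI := DerLib.Devissage.isIso_homology_truncLEι X₁ j j le_rfl
  let e' := e ≪≫ (singleFunctor (Sheaf J AddCommGrpCat.{u}) j).mapIso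
    (asIso ((H j).map ((t.truncLEι j).app X₁)) ≪≫ (asIso ((H j).map π)).symm)
  let c : (dgen J Y j ⟶ (t.truncLE j).obj X₁) ≃+
      (dgen J Y j ⟶ (singleFunctor (Sheaf J AddCommGrpCat.{u}) j).obj ((H j).obj X)) :=
    homEquivOfGenBij e'.hom (j := j) (Y := Y) ((Iso.homToEquiv e').bijective)
  exact ⟨((homEquivOfGenBij π g1).trans (homEquivOfGenBij _ g2).symm).trans
    (c.trans (dgenSingleEquiv _ Y j))⟩

/-- Cohomology over an object without higher cohomology is sections of cohomology sheaves. -/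
theorem nonempty_HDU_equiv (K : DerivedCategory (Sheaf J AddCommGrpCat.{u})) (B : Set C)
    (hB : ∀ U : C, ∃ (ι : Type u) (Y : ι → C) (g : ∀ i, Y i ⟶ U), Sieve.ofArrows Y g ∈ J U ∧ ∀ i, Y i ∈ B)
    (h : ∀ U ∈ B, ∀ (p : ℕ) (q : ℤ),
      Subsingleton (CohSite.HU ((homologyFunctor (Sheaf J AddCommGrpCat.{u}) q).obj K) (p + 1) U))
    (U : C) (hU : U ∈ B) (q : ℤ) :
    Nonempty (CohCx.HDU K q U ≃+ ((homologyFunctor (Sheaf J AddCommGrpCat.{u}) q).obj K).obj.obj (op U)) := by
  let A := Sheaf J AddCommGrpCat.{u}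
  have hv : ∀ Y ∈ B, ∀ (j : ℤ) (n : ℕ), (-j).toNat ≤ n → ∀ k : ℕ, (k : ℤ) = j + n + 1 ∨ (k : ℤ) = j + n + 2 →
      Subsingleton (CohSite.HU ((homologyFunctor A (-(n : ℤ) - 1)).obj K) k Y) := fun Y hY j n hn k hk => by
    obtain ⟨p, rfl⟩ : ∃ p, k = p + 1 := ⟨k - 1, by omega⟩
    exact h Y hY p _
  have tv : TowerVanish K B := fun j V _ => ⟨(-j).toNat,
    ModCohLib.cofinalCover_of_forall J B hB (fun Y hY => hv Y hY j) V⟩
  let n := (-q).toNat
  have g := genBij_toTruncTower K B hB tv U q n (hv U hU q) n le_rfl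
  haveI : (CohCx.truncTower K n).IsGE (-(n : ℤ)) := inferInstanceAs (((t.truncGE (-(n : ℤ))).obj K).IsGE _)
  obtain ⟨e⟩ := nonempty_dgen_equiv U q (-(n : ℤ)) (CohCx.truncTower K n) fun m k hk => by
    by_cases hm : -(n : ℤ) ≤ m
    · obtain ⟨p, rfl⟩ : ∃ p, k = p + 1 := ⟨k - 1, by omega⟩
      haveI := ModCohLib.isIso_homology_truncGEπ K (-(n : ℤ)) m hm
      exact subsingleton_HU_of_iso (asIso ((homologyFunctor A m).map (CohCx.toTruncTower K n))).symm (p + 1) U
        (h U hU p m)
    · exact subsingleton_HU_of_isZero (ModCohLib.isZero_homology_truncTower K n m (by omega)) k U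
  haveI := ModCohLib.isIso_homology_truncGEπ K (-(n : ℤ)) q (by omega)
  let iso : ((homologyFunctor A q).obj (CohCx.truncTower K n)).obj.obj (op U) ≃+
      ((homologyFunctor A q).obj K).obj.obj (op U) :=
    (((sheafToPresheaf J AddCommGrpCat.{u}).mapIso
      (asIso ((homologyFunctor A q).map (CohCx.toTruncTower K n))).symm).app (op U)).addCommGroupIsoToAddEquiv
  let s := ((DerivedCategory.singleFunctors A).shiftIso q 0 q (by omega)).app (freeAb J U)
  let shiftEq : (dgen J U q ⟶ K) ≃+ CohCx.HDU K q U :=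
    (AddEquiv.ofBijective ((shiftFunctor (DerivedCategory A) q).mapAddHom (X := dgen J U q) (Y := K))
      ⟨(shiftFunctor (DerivedCategory A) q).map_injective,
        (shiftFunctor (DerivedCategory A) q).map_surjective⟩).trans
    { toFun := fun x => s.inv ≫ x
      invFun := fun x => s.hom ≫ x
      left_inv := fun x => s.hom_inv_id_assoc x
      right_inv := fun x => s.inv_hom_id_assoc x
      map_add' := fun _ _ => Preadditive.comp_add _ _ _ _ _ _ }
  exact ⟨shiftEq.symm.trans ((homEquivOfGenBij _ g).trans (e.trans iso))⟩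

end Groth.Agent.AbSiteDerLib
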