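import Groth.Agent.AbSiteDerLib.Milnor

/-!
# Cohomology groups as maps out of shifted generators
-/

set_option linter.unusedSectionVars false
set_option linter.style.haveILetI false
set_option backward.isDefEq.respectTransparency false

universe w u

open CategoryTheory Limits Pretriangulated DerivedCategory
open Opposite (op unop)

namespace Groth.Agent.AbSiteDerLib

variable {C : Type u} [SmallCategory C] {J : GrothendieckTopology C}
  [HasDerivedCategory.{w} (Sheaf J AddCommGrpCat.{u})]

/-- Maps out of a shifted generator as a cohomology class. -/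
noncomputable def hduMap (U : C) (j : ℤ) (K : DerivedCategory (Sheaf J AddCommGrpCat.{u})) :
    (dgen J U j ⟶ K) →+ CohCx.HDU K j U :=
  (Preadditive.leftComp ((shiftFunctor (DerivedCategory (Sheaf J AddCommGrpCat.{u})) j).obj K)
    (((singleFunctors (Sheaf J AddCommGrpCat.{u})).shiftIso j 0 j (by omega)).app (freeAb J U)).inv).comp
    (shiftFunctor (DerivedCategory (Sheaf J AddCommGrpCat.{u})) j).mapAddHom

theorem hduMap_bijective (U : C) (j : ℤ) (K : DerivedCategory (Sheaf J AddCommGrpCat.{u})) :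
    Function.Bijective (hduMap U j K) := by
  let e := ((singleFunctors (Sheaf J AddCommGrpCat.{u})).shiftIso j 0 j (by omega)).app (freeAb J U)
  exact (e.homFromEquiv (Z := (shiftFunctor _ j).obj K)).bijective.comp
    ⟨(shiftFunctor (DerivedCategory (Sheaf J AddCommGrpCat.{u})) j).map_injective,
      (shiftFunctor (DerivedCategory (Sheaf J AddCommGrpCat.{u})) j).map_surjective⟩

theorem hduMap_comp (U : C) (j : ℤ) {K K' : DerivedCategory (Sheaf J AddCommGrpCat.{u})}
    (x : dgen J U j ⟶ K) (a : K ⟶ K') :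
    hduMap U j K' (x ≫ a) = hduMap U j K x ≫ a⟦j⟧' := by
  change _ ≫ (shiftFunctor _ j).map (x ≫ a) = (_ ≫ _) ≫ _
  rw [CategoryTheory.Functor.map_comp, Category.assoc]
  rfl

theorem isRlimVia_comp {T : Type*} [Category T] [Preadditive T] [HasZeroObject T] [HasShift T ℤ]
    [∀ n : ℤ, (shiftFunctor T n).Additive] [Pretriangulated T]
    {K : ℕ → T} {t : ∀ n, K (n + 1) ⟶ K n} [HasProduct K] {L : T} {a : ∀ n, L ⟶ K n}
    (hL : CohCx.IsRlimVia K t L a) (n : ℕ) : a (n + 1) ≫ t n = a n := by
  obtain ⟨c, hc⟩ := hL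
  have h : Pi.lift a ≫ Pi.lift (fun n => Pi.π K n - Pi.π K (n + 1) ≫ t n) = 0 :=
    comp_distTriang_mor_zero₁₂ _ hc
  have h' := congrArg (· ≫ Pi.π K n) h
  simp only [Category.assoc, Pi.lift_π, Preadditive.comp_sub, Pi.lift_π_assoc, zero_comp] at h'
  exact (sub_eq_zero.mp h').symm

theorem isRlimVia_transition {T : Type*} [Category T] [Preadditive T] [HasZeroObject T] [HasShift T ℤ]
    [∀ n : ℤ, (shiftFunctor T n).Additive] [Pretriangulated T]
    {K : ℕ → T} {t : ∀ n, K (n + 1) ⟶ K n} [HasProduct K] {L : T} {a : ∀ n, L ⟶ K n}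
    (hL : CohCx.IsRlimVia K t L a) (n k : ℕ) : a (n + k) ≫ CohCx.transition K t n k = a n := by
  induction k with
  | zero => exact Category.comp_id _
  | succ k ih =>
    refine (Category.assoc _ _ _).symm.trans ?_
    exact (congrArg (· ≫ CohCx.transition K t n k) (isRlimVia_comp hL (n + k))).trans ih

/-- Injectivity of transitions and vanishing of lim¹ detect maps into a derived limit at a single index. -/
theorem eq_zero_of_rlim_transition {K : ℕ → DerivedCategory (Sheaf J AddCommGrpCat.{u})}
    {t : ∀ n, K (n + 1) ⟶ K n} [HasProduct K] {L : DerivedCategory (Sheaf J AddCommGrpCat.{u})}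
    {a : ∀ n, L ⟶ K n} (hL : CohCx.IsRlimVia K t L a) (U : C) (m : ℤ) (nx : ℕ)
    (hlim : CohCx.LimOneIsZero (fun n => CohCx.HDU (K n) (m - 1) U)
      (fun n => Preadditive.rightComp _ ((shiftFunctor _ (m - 1)).map (t n))))
    (hinj : ∀ k : ℕ, Function.Injective
      (Preadditive.rightComp _ ((shiftFunctor _ m).map (CohCx.transition K t nx k)) :
        CohCx.HDU (K (nx + k)) m U → CohCx.HDU (K nx) m U))
    (y : dgen J U m ⟶ L) (hy : y ≫ a nx = 0) : y = 0 := by
  have hge : ∀ k, y ≫ a (nx + k) = 0 := fun k => (hduMap_bijective U m _).1 (hinj k (by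
    rw [map_zero, map_zero]
    refine (hduMap_comp U m (y ≫ a (nx + k)) (CohCx.transition K t nx k)).symm.trans ?_
    rw [Category.assoc, isRlimVia_transition hL, hy, map_zero]))
  have hall : ∀ n, y ≫ a n = 0 := fun n => by
    rcases le_total nx n with h | h
    · obtain ⟨k, rfl⟩ := Nat.le.dest h
      exact hge k
    · obtain ⟨k, hk⟩ := Nat.le.dest h
      subst hk
      rw [← isRlimVia_transition hL n k, ← Category.assoc, hy, zero_comp]
  let e := ((singleFunctors (Sheaf J AddCommGrpCat.{u})).shiftIso 1 (m - 1) m (by omega)).app (freeAb J U)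
  exact eq_zero_of_rlim hL (surjective_limOne_of_equiv
    (A := fun n => (dgen J U m)⟦(1 : ℤ)⟧ ⟶ K n) (B := fun n => CohCx.HDU (K n) (m - 1) U)
    (fun n x => x ≫ t n) (fun n b => b ≫ (shiftFunctor _ (m - 1)).map (t n))
    (fun n => (hduMap U (m - 1) (K n)).comp (Preadditive.leftComp (K n) e.inv))
    (fun n => (hduMap_bijective U (m - 1) (K n)).comp e.homFromEquiv.bijective)
    (fun n x => (congrArg (hduMap U (m - 1) (K n)) (Category.assoc _ _ _).symm).trans
      (hduMap_comp U (m - 1) _ (t n))) hlim) y hall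

end Groth.Agent.AbSiteDerLib
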