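/-
Cohomology of complexes of sheaves of modules through sections over objects.
-/
import Groth.Agent.CohLib.Sections
import Groth.Prelude.Def_CohCx
import Groth.Agent.DerLib.KInjUse
import Mathlib.Algebra.Category.Grp.EpiMono
import Mathlib.Algebra.Homology.DerivedCategory.KInjective
import Mathlib.CategoryTheory.Sites.LocallyBijective

set_option linter.unusedSectionVars false
set_option linter.style.haveILetI false
set_option backward.isDefEq.respectTransparency false

universe w u

open CategoryTheory Limits HomologicalComplex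
open Opposite (op unop)

namespace Groth.Agent.AbSiteDerLib


variable {C : Type u} [SmallCategory C] {J : GrothendieckTopology C}

/-- The free abelian sheaf on `Y`. -/
noncomputable abbrev freeAb (J : GrothendieckTopology C) (Y : C) : Sheaf J AddCommGrpCat.{u} :=
  CohCx.freeSheaf J Y

/-- Maps out of the free sheaf are sections. -/
noncomputable abbrev fsEquiv (M : Sheaf J AddCommGrpCat.{u}) (Y : C) :
    (freeAb J Y ⟶ M) ≃ M.obj.obj (op Y) :=
  CohLib.secEquiv Y M

theorem secEquiv_comp' (Y : C) {M N : Sheaf J AddCommGrpCat.{u}} (a : freeAb J Y ⟶ M) (p : M ⟶ N) :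
    fsEquiv N Y (a ≫ p) = p.hom.app (op Y) (fsEquiv M Y a) :=
  CohLib.secEquiv_comp Y p a

variable (J) in
/-- The presheaf of sections. -/
noncomputable abbrev Psec : Sheaf J AddCommGrpCat.{u} ⥤ (Cᵒᵖ ⥤ AddCommGrpCat.{u}) :=
  sheafToPresheaf J AddCommGrpCat.{u}

instance : (Psec J).Additive where

/-- The presheaf of cohomology of sections. -/
noncomputable abbrev hpsh (I : CochainComplex (Sheaf J AddCommGrpCat.{u}) ℤ) (j : ℤ) :
    Cᵒᵖ ⥤ AddCommGrpCat.{u} :=
  (((Psec J).mapHomologicalComplex (ComplexShape.up ℤ)).obj I).homology j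

/-- Functoriality of `hpsh`. -/
noncomputable abbrev hpshMap {I I' : CochainComplex (Sheaf J AddCommGrpCat.{u}) ℤ} (φ : I ⟶ I') (j : ℤ) :
    hpsh I j ⟶ hpsh I' j :=
  homologyMap (((Psec J).mapHomologicalComplex (ComplexShape.up ℤ)).map φ) j

/-- Bijectivity of the cohomology of sections over `Y`. -/
def BijAt {I I' : CochainComplex (Sheaf J AddCommGrpCat.{u}) ℤ} (φ : I ⟶ I') (j : ℤ) (Y : C) : Prop :=
  Function.Bijective ((hpshMap φ j).app (op Y)).hom

theorem isIso_homologyMap_map_iff {A B : Type*} [Category A] [Category B] [Abelian A] [Abelian B]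
    (G : A ⥤ B) [G.PreservesZeroMorphisms] [G.PreservesHomology] {S T : ShortComplex A} (φ : S ⟶ T) :
    IsIso (ShortComplex.homologyMap (G.mapShortComplex.map φ)) ↔
      IsIso (G.map (ShortComplex.homologyMap φ)) := by
  rw [← isIso_comp_right_iff _ ((T.mapHomologyIso G).hom),
    ShortComplex.mapHomologyIso_hom_naturality φ G, isIso_comp_left_iff]

theorem isIso_homologyMap_iff_of_natIso {A B : Type*} [Category A] [Category B] [Abelian A]
    [Abelian B] {G G' : A ⥤ B} [G.PreservesZeroMorphisms] [G'.PreservesZeroMorphisms] (τ : G ≅ G')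
    {S T : ShortComplex A} (φ : S ⟶ T) :
    IsIso (ShortComplex.homologyMap (G.mapShortComplex.map φ)) ↔
      IsIso (ShortComplex.homologyMap (G'.mapShortComplex.map φ)) := by
  have h : G.mapShortComplex.map φ ≫ (T.mapNatIso τ).hom =
      (S.mapNatIso τ).hom ≫ G'.mapShortComplex.map φ := by
    ext <;> exact τ.hom.naturality _
  rw [← isIso_comp_right_iff _ (ShortComplex.homologyMap (T.mapNatIso τ).hom),
    ← ShortComplex.homologyMap_comp, h, ShortComplex.homologyMap_comp, isIso_comp_left_iff]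

theorem isIso_homologyMap_iff {I I' : CochainComplex (Sheaf J AddCommGrpCat.{u}) ℤ} (φ : I ⟶ I') (j : ℤ) :
    IsIso (homologyMap φ j) ↔
      Presheaf.IsLocallyInjective J (hpshMap φ j) ∧ Presheaf.IsLocallySurjective J (hpshMap φ j) := by
  let a := presheafToSheaf J AddCommGrpCat.{u}
  haveI : a.Additive := (sheafificationAdjunction J AddCommGrpCat.{u}).left_adjoint_additive
  haveI : a.PreservesHomology := inferInstance
  let S := (HomologicalComplex.shortComplexFunctor (Sheaf J AddCommGrpCat.{u}) (ComplexShape.up ℤ) j).map φ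
  let τ : Psec J ⋙ a ≅ 𝟭 _ := asIso (sheafificationAdjunction J AddCommGrpCat.{u}).counit
  have h3 : IsIso (ShortComplex.homologyMap ((Psec J ⋙ a).mapShortComplex.map S)) ↔
      IsIso (ShortComplex.homologyMap S) := isIso_homologyMap_iff_of_natIso τ S
  have h4 : IsIso (ShortComplex.homologyMap ((Psec J ⋙ a).mapShortComplex.map S)) ↔
      IsIso (a.map (hpshMap φ j)) :=
    isIso_homologyMap_map_iff a ((Psec J).mapShortComplex.map S)
  exact h3.symm.trans (h4.trans ((J.W_iff _).symm.trans (J.W_iff_isLocallyBijective _)))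

variable (J) in
/-- Sections over `Y`. -/
noncomputable abbrev secAt (Y : C) : Sheaf J AddCommGrpCat.{u} ⥤ AddCommGrpCat.{u} :=
  Psec J ⋙ (evaluation Cᵒᵖ AddCommGrpCat.{u}).obj (op Y)

/-- `BijAt` in terms of the complexes of sections over the object. -/
theorem bijAt_iff_secAt {I I' : CochainComplex (Sheaf J AddCommGrpCat.{u}) ℤ} (φ : I ⟶ I') (j : ℤ) (Y : C) :
    BijAt φ j Y ↔ IsIso (homologyMap (((secAt J Y).mapHomologicalComplex (ComplexShape.up ℤ)).map φ) j) := by
  let ev := (evaluation Cᵒᵖ AddCommGrpCat.{u}).obj (op Y)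
  have h := isIso_homologyMap_map_iff ev ((HomologicalComplex.shortComplexFunctor _ (ComplexShape.up ℤ) j).map
    (((Psec J).mapHomologicalComplex (ComplexShape.up ℤ)).map φ))
  exact ((ConcreteCategory.isIso_iff_bijective (ev.map (hpshMap φ j))).symm.trans h.symm)

section Gen

variable (J)

/-- The free module on `Y` in degree `j`. -/
noncomputable abbrev gen (Y : C) (j : ℤ) : CochainComplex (Sheaf J AddCommGrpCat.{u}) ℤ :=
  (single (Sheaf J AddCommGrpCat.{u}) (ComplexShape.up ℤ) j).obj (freeAb J Y)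

/-- The tautological section. -/
noncomputable def usec (Y : C) (j : ℤ) : ((Psec J).obj ((gen J Y j).X j)).obj (op Y) :=
  fsEquiv ((gen J Y j).X j) Y
    (singleObjXSelf (ComplexShape.up ℤ) j (freeAb J Y)).inv

variable {J}

theorem freeOnEquiv_eq {M : Sheaf J AddCommGrpCat.{u}} (Y : C) (j : ℤ) (z : (gen J Y j).X j ⟶ M) :
    ((Psec J).map z).app (op Y) (usec J Y j) =
      fsEquiv M Y ((singleObjXSelf (ComplexShape.up ℤ) j _).inv ≫ z) :=
  (secEquiv_comp' Y _ z).symm

/-- A module-valued version of the sections functor evaluated at `Y`. -/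
noncomputable abbrev secComplex (I : CochainComplex (Sheaf J AddCommGrpCat.{u}) ℤ) :
    CochainComplex (Cᵒᵖ ⥤ AddCommGrpCat.{u}) ℤ :=
  ((Psec J).mapHomologicalComplex (ComplexShape.up ℤ)).obj I

theorem iCycles_injective (K : CochainComplex (Cᵒᵖ ⥤ AddCommGrpCat.{u}) ℤ) (j : ℤ) (Y : Cᵒᵖ) :
    Function.Injective ((K.iCycles j).app Y).hom :=
  (AddCommGrpCat.mono_iff_injective _).1 inferInstance

theorem homologyπ_surjective (K : CochainComplex (Cᵒᵖ ⥤ AddCommGrpCat.{u}) ℤ) (j : ℤ) (Y : Cᵒᵖ) :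
    Function.Surjective ((K.homologyπ j).app Y).hom :=
  (AddCommGrpCat.epi_iff_surjective _).1 inferInstance

theorem exists_cycle (K : CochainComplex (Cᵒᵖ ⥤ AddCommGrpCat.{u}) ℤ) (j : ℤ) (Y : Cᵒᵖ)
    (x : (K.X j).obj Y) (hx : (K.d j (j + 1)).app Y x = 0) :
    ∃ z, (K.iCycles j).app Y z = x := by
  let ev := (evaluation Cᵒᵖ AddCommGrpCat.{u}).obj Y
  let S : ShortComplex (Cᵒᵖ ⥤ AddCommGrpCat.{u}) := ShortComplex.mk _ _ (K.iCycles_d j (j + 1))
  have hS : (S.map ev).Exact :=
    (ShortComplex.exact_of_f_is_kernel S (K.cyclesIsKernel j (j + 1) (by simp))).map ev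
  exact (ShortComplex.ab_exact_iff _).1 hS x hx

theorem homologyπ_eq_zero_iff (K : CochainComplex (Cᵒᵖ ⥤ AddCommGrpCat.{u}) ℤ) (j : ℤ) (Y : Cᵒᵖ)
    (z : (K.cycles j).obj Y) : (K.homologyπ j).app Y z = 0 ↔
      ∃ y, (K.d (j - 1) j).app Y y = (K.iCycles j).app Y z := by
  let ev := (evaluation Cᵒᵖ AddCommGrpCat.{u}).obj Y
  let S : ShortComplex (Cᵒᵖ ⥤ AddCommGrpCat.{u}) :=
    ShortComplex.mk _ _ (K.toCycles_comp_homologyπ (j - 1) j)
  have hS : (S.map ev).Exact :=
    (ShortComplex.exact_of_g_is_cokernel S (K.homologyIsCokernel (j - 1) j (by simp))).map ev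
  constructor
  · intro h
    obtain ⟨y, hy⟩ := (ShortComplex.ab_exact_iff _).1 hS z h
    exact ⟨y, (ConcreteCategory.congr_hom (NatTrans.congr_app (K.toCycles_i (j - 1) j) Y) y).symm.trans
      (congrArg ((K.iCycles j).app Y) hy)⟩
  · rintro ⟨y, hy⟩
    have : (K.toCycles (j - 1) j).app Y y = z := iCycles_injective K j Y
      ((ConcreteCategory.congr_hom (NatTrans.congr_app (K.toCycles_i (j - 1) j) Y) y).trans hy)
    rw [← this]
    exact ConcreteCategory.congr_hom (NatTrans.congr_app (K.toCycles_comp_homologyπ (j - 1) j) Y) y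

theorem usec_d (Y : C) (j : ℤ) :
    ((secComplex (gen J Y j)).d j (j + 1)).app (op Y) (usec J Y j) = 0 := by
  have : (secComplex (gen J Y j)).d j (j + 1) = 0 := by
    simp [Functor.mapHomologicalComplex_obj_d]
  rw [this]
  rfl

/-- The tautological class. -/
noncomputable def ucls (J : GrothendieckTopology C) (Y : C) (j : ℤ) :
    (hpsh (gen J Y j) j).obj (op Y) :=
  ((secComplex (gen J Y j)).homologyπ j).app (op Y)
    (exists_cycle (secComplex (gen J Y j)) j (op Y) (usec J Y j) (usec_d Y j)).choose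

theorem ucls_spec (Y : C) (j : ℤ) : ∃ z, ((secComplex (gen J Y j)).homologyπ j).app (op Y) z = ucls J Y j ∧
    ((secComplex (gen J Y j)).iCycles j).app (op Y) z = usec J Y j :=
  ⟨_, rfl, (exists_cycle (secComplex (gen J Y j)) j (op Y) (usec J Y j) (usec_d Y j)).choose_spec⟩

/-- The class of a map out of the free module. -/
noncomputable def cls {I : CochainComplex (Sheaf J AddCommGrpCat.{u}) ℤ} {Y : C} {j : ℤ} (g : gen J Y j ⟶ I) :
    (hpsh I j).obj (op Y) :=
  (hpshMap g j).app (op Y) (ucls J Y j)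

theorem cls_comp {I I' : CochainComplex (Sheaf J AddCommGrpCat.{u}) ℤ} {Y : C} {j : ℤ} (g : gen J Y j ⟶ I)
    (φ : I ⟶ I') : cls (g ≫ φ) = (hpshMap φ j).app (op Y) (cls g) := by
  simp only [cls, hpshMap, Functor.map_comp, homologyMap_comp]
  rfl

theorem cls_sub {I : CochainComplex (Sheaf J AddCommGrpCat.{u}) ℤ} {Y : C} {j : ℤ} (g g' : gen J Y j ⟶ I) :
    cls (g - g') = cls g - cls g' := by
  simp only [cls, hpshMap, Functor.map_sub, homologyMap_sub]
  rfl

theorem cls_eq {I : CochainComplex (Sheaf J AddCommGrpCat.{u}) ℤ} {Y : C} {j : ℤ} (g : gen J Y j ⟶ I) :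
    ∃ z, ((secComplex I).homologyπ j).app (op Y) z = cls g ∧
      ((secComplex I).iCycles j).app (op Y) z =
        fsEquiv (I.X j) Y ((singleObjXSelf (ComplexShape.up ℤ) j _).inv ≫ g.f j) := by
  obtain ⟨z, hz, hz'⟩ := ucls_spec (J := J) Y j
  let G := ((Psec J).mapHomologicalComplex (ComplexShape.up ℤ)).map g
  refine ⟨(cyclesMap G j).app (op Y) z, ?_, ?_⟩
  · rw [cls, ← hz]
    exact (ConcreteCategory.congr_hom (NatTrans.congr_app (homologyπ_naturality G j) (op Y)) z).symm
  · refine (ConcreteCategory.congr_hom (NatTrans.congr_app (cyclesMap_i G j) (op Y)) z).trans ?_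
    refine Eq.trans ?_ (freeOnEquiv_eq Y j (g.f j))
    exact congrArg (((Psec J).map (g.f j)).app (op Y)) hz'

theorem cls_surjective (I : CochainComplex (Sheaf J AddCommGrpCat.{u}) ℤ) (Y : C) (j : ℤ) :
    Function.Surjective (cls : (gen J Y j ⟶ I) → _) := by
  intro h
  obtain ⟨z, rfl⟩ := homologyπ_surjective (secComplex I) j (op Y) h
  let x := ((secComplex I).iCycles j).app (op Y) z
  let m := (fsEquiv (I.X j) Y).symm x
  have hx : ((secComplex I).d j (j + 1)).app (op Y) x = 0 :=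
    ConcreteCategory.congr_hom (NatTrans.congr_app ((secComplex I).iCycles_d j (j + 1)) (op Y)) z
  have hm : m ≫ I.d j (j + 1) = 0 := by
    apply (fsEquiv _ Y).injective
    rw [secEquiv_comp', Equiv.apply_symm_apply]
    refine Eq.trans hx ?_
    have h0 := secEquiv_comp' Y m (0 : I.X j ⟶ I.X (j + 1))
    rw [comp_zero] at h0
    exact h0.symm
  have hm' : ∀ k, (ComplexShape.up ℤ).Rel j k → m ≫ I.d j k = 0 := by
    rintro k rfl
    exact hm
  refine ⟨mkHomFromSingle m hm', ?_⟩
  obtain ⟨z', hz', hi⟩ := cls_eq (mkHomFromSingle m hm')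
  rw [mkHomFromSingle_f, Iso.inv_hom_id_assoc, Equiv.apply_symm_apply] at hi
  rw [← hz', iCycles_injective _ _ _ hi]

theorem cls_eq_zero_iff {I : CochainComplex (Sheaf J AddCommGrpCat.{u}) ℤ} {Y : C} {j : ℤ} (g : gen J Y j ⟶ I) :
    cls g = 0 ↔ Nonempty (Homotopy g 0) := by
  obtain ⟨z, hz, hi⟩ := cls_eq g
  rw [← hz, homologyπ_eq_zero_iff, hi]
  have r₂₁ : (ComplexShape.up ℤ).Rel (j - 1) j := by simp
  have r₁₀ : (ComplexShape.up ℤ).Rel j (j + 1) := by simp
  constructor
  · rintro ⟨y, hy⟩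
    let m := (fsEquiv (I.X (j - 1)) Y).symm y
    have hm : m ≫ I.d (j - 1) j = (singleObjXSelf (ComplexShape.up ℤ) j _).inv ≫ g.f j := by
      apply (fsEquiv _ Y).injective
      rw [secEquiv_comp', Equiv.apply_symm_apply]
      exact hy
    let hh : ∀ i k, (ComplexShape.up ℤ).Rel k i → ((gen J Y j).X i ⟶ I.X k) := fun i k _ =>
      if e : i = j ∧ k = j - 1 then
        (singleObjXIsoOfEq (ComplexShape.up ℤ) j _ i e.1).hom ≫ m ≫ (I.XIsoOfEq e.2).inv
      else 0
    have hg : g = Homotopy.nullHomotopicMap' hh := by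
      apply from_single_hom_ext
      rw [Homotopy.nullHomotopicMap'_f r₂₁ r₁₀, show (gen J Y j).d j (j + 1) = 0 by simp, zero_comp,
        zero_add]
      simp only [hh, and_self, dif_pos, XIsoOfEq_rfl, Iso.refl_inv, Category.comp_id, Category.assoc, hm]
      exact ((singleObjXSelf (ComplexShape.up ℤ) j _).hom_inv_id_assoc _).symm
    exact ⟨hg ▸ Homotopy.nullHomotopy' hh⟩
  · rintro ⟨H⟩
    refine ⟨fsEquiv (I.X (j - 1)) Y
      ((singleObjXSelf (ComplexShape.up ℤ) j _).inv ≫ H.hom j (j - 1)), ?_⟩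
    refine (secEquiv_comp' Y _ (I.d (j - 1) j)).symm.trans (congrArg _ ?_)
    rw [Category.assoc]
    congr 1
    rw [H.comm j, dNext_eq _ r₁₀, prevD_eq _ r₂₁]
    simp

/-- For K-injective complexes, sections detect maps out of the free modules. -/
theorem bijAt_iff [HasDerivedCategory.{w} (Sheaf J AddCommGrpCat.{u})] {I I' : CochainComplex (Sheaf J AddCommGrpCat.{u}) ℤ}
    [I.IsKInjective] [I'.IsKInjective] (φ : I ⟶ I') (j : ℤ) (Y : C) :
    BijAt φ j Y ↔ Function.Bijective fun x : DerivedCategory.Q.obj (gen J Y j) ⟶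
      DerivedCategory.Q.obj I => x ≫ DerivedCategory.Q.map φ := by
  have key : ∀ {L : CochainComplex (Sheaf J AddCommGrpCat.{u}) ℤ} [L.IsKInjective] (g : gen J Y j ⟶ L),
      DerivedCategory.Q.map g = 0 ↔ cls g = 0 := by
    intro L _ g
    rw [cls_eq_zero_iff]
    refine ⟨fun h => ⟨HomotopyCategory.homotopyOfEq _ _
      ((DerLib.KInjUse.quotient_eq_zero_of_Q h).trans (Functor.map_zero _ _ _).symm)⟩, fun ⟨H⟩ =>
      DerLib.KInjUse.Q_map_zero_of_quotient
        ((HomotopyCategory.eq_of_homotopy _ _ H).trans (Functor.map_zero _ _ _))⟩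
  constructor
  · intro hb
    refine ⟨fun x x' h => ?_, fun y => ?_⟩
    · obtain ⟨g, rfl⟩ := DerLib.KInjUse.Q_map_surjective _ _ x
      obtain ⟨g', rfl⟩ := DerLib.KInjUse.Q_map_surjective _ _ x'
      rw [← sub_eq_zero, ← Functor.map_sub, key]
      apply hb.1
      rw [map_zero, ← cls_comp, ← key, Preadditive.sub_comp, Functor.map_sub, sub_eq_zero,
        Functor.map_comp, Functor.map_comp]
      exact h
    · obtain ⟨k, rfl⟩ := DerLib.KInjUse.Q_map_surjective _ _ y
      obtain ⟨h, hh⟩ := hb.2 (cls k)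
      obtain ⟨g, rfl⟩ := cls_surjective I Y j h
      refine ⟨DerivedCategory.Q.map g, ?_⟩
      show _ ≫ _ = _
      rw [← Functor.map_comp, ← sub_eq_zero, ← Functor.map_sub, key, cls_sub, cls_comp, sub_eq_zero]
      exact hh
  · intro hb
    refine ⟨fun h h' e => ?_, fun y => ?_⟩
    · obtain ⟨g, rfl⟩ := cls_surjective I Y j h
      obtain ⟨g', rfl⟩ := cls_surjective I Y j h'
      rw [← sub_eq_zero, ← cls_sub, ← key, Functor.map_sub, sub_eq_zero]
      apply hb.1
      show _ ≫ _ = _ ≫ _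
      rw [← Functor.map_comp, ← Functor.map_comp, ← sub_eq_zero, ← Functor.map_sub, key, cls_sub,
        cls_comp, cls_comp, sub_eq_zero]
      exact e
    · obtain ⟨k, rfl⟩ := cls_surjective I' Y j y
      obtain ⟨x, hx⟩ := hb.2 (DerivedCategory.Q.map k)
      obtain ⟨g, rfl⟩ := DerLib.KInjUse.Q_map_surjective _ _ x
      refine ⟨cls g, ?_⟩
      rw [← cls_comp, ← sub_eq_zero, ← cls_sub, ← key, Functor.map_sub, Functor.map_comp, sub_eq_zero]
      exact hx

end Gen

end Groth.Agent.AbSiteDerLib
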