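import Groth.Agent.AbSiteDerLib.Sheafify

/-!
# The cohomology presheaf of a K-injective complex
-/

set_option linter.unusedSectionVars false
set_option linter.style.haveILetI false
set_option backward.isDefEq.respectTransparency false
set_option backward.isDefEq.respectTransparency.types false

universe u

open CategoryTheory Limits Pretriangulated DerivedCategory HomologicalComplex
open Opposite (op unop)

namespace Groth.Agent.AbSiteDerLib

variable {C : Type u} [SmallCategory C] {J : GrothendieckTopology C}

/-- The map of free sheaves in a degree. -/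
noncomputable abbrev genMap {U V : C} (f : V ⟶ U) (j : ℤ) : gen J V j ⟶ gen J U j :=
  (single (Sheaf J AddCommGrpCat.{u}) (ComplexShape.up ℤ) j).map (CohCx.freeSheafMap J f)

theorem cls_genMap [HasDerivedCategory.{u} (Sheaf J AddCommGrpCat.{u})] {U V : C} (f : V ⟶ U) {I : CochainComplex (Sheaf J AddCommGrpCat.{u}) ℤ} {j : ℤ}
    (g : gen J U j ⟶ I) : cls (genMap f j ≫ g) = (hpsh I j).map f.op (cls g) := by
  obtain ⟨z', hz', hi'⟩ := cls_eq (genMap f j ≫ g)
  obtain ⟨z, hz, hi⟩ := cls_eq g
  rw [← hz', ← hz, ← NatTrans.naturality_apply]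
  refine congrArg _ (iCycles_injective _ _ _ ?_)
  rw [hi', NatTrans.naturality_apply, hi, HomologicalComplex.comp_f, single_map_f_self]
  simp only [Category.assoc, Iso.inv_hom_id_assoc]
  exact fsEquiv_precomp f _

variable [HasDerivedCategory.{u} (Sheaf J AddCommGrpCat.{u})]
  {I : CochainComplex (Sheaf J AddCommGrpCat.{u}) ℤ} [I.IsKInjective]

theorem Q_map_eq_zero_iff {U : C} {j : ℤ} (g : gen J U j ⟶ I) : DerivedCategory.Q.map g = 0 ↔ cls g = 0 := by
  rw [cls_eq_zero_iff]
  refine ⟨fun h => ⟨HomotopyCategory.homotopyOfEq _ _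
    ((DerLib.KInjUse.quotient_eq_zero_of_Q h).trans (Functor.map_zero _ _ _).symm)⟩, fun ⟨H⟩ =>
    DerLib.KInjUse.Q_map_zero_of_quotient
      ((HomotopyCategory.eq_of_homotopy _ _ H).trans (Functor.map_zero _ _ _))⟩

theorem Q_map_eq_of_cls {U : C} {j : ℤ} (g g' : gen J U j ⟶ I) (h : cls g = cls g') :
    DerivedCategory.Q.map g = DerivedCategory.Q.map g' := by
  rw [← sub_eq_zero, ← Functor.map_sub, Q_map_eq_zero_iff, cls_sub, h, sub_self]

variable (I) in
/-- The cohomology class of a class of sections. -/
noncomputable def hduOfClass (U : C) (j : ℤ) :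
    (hpsh I j).obj (op U) →+ CohCx.HDU (DerivedCategory.Q.obj I) j U :=
  AddMonoidHom.mk' (fun h => hduMap U j (DerivedCategory.Q.obj I) (DerivedCategory.Q.map (cls_surjective I U j h).choose))
    fun h h' => by
      have e : cls ((cls_surjective I U j h).choose + (cls_surjective I U j h').choose) =
          cls (cls_surjective I U j (h + h')).choose := by
        rw [(cls_surjective I U j (h + h')).choose_spec, cls, hpshMap, Functor.map_add, homologyMap_add]
        exact congrArg₂ (· + ·) (cls_surjective I U j h).choose_spec (cls_surjective I U j h').choose_spec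
      rw [← Q_map_eq_of_cls _ _ e, Functor.map_add]
      exact map_add (hduMap U j (DerivedCategory.Q.obj I)) _ _

theorem hduOfClass_cls {U : C} {j : ℤ} (g : gen J U j ⟶ I) :
    hduOfClass I U j (cls g) = hduMap U j (DerivedCategory.Q.obj I) (DerivedCategory.Q.map g) :=
  congrArg (hduMap U j (DerivedCategory.Q.obj I))
    (Q_map_eq_of_cls _ _ (cls_surjective I U j (cls g)).choose_spec)

theorem bijective_hduOfClass (U : C) (j : ℤ) : Function.Bijective (hduOfClass I U j) := by
  refine ⟨(injective_iff_map_eq_zero _).mpr fun h hh => ?_, fun y => ?_⟩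
  · obtain ⟨g, rfl⟩ := cls_surjective I U j h
    rw [hduOfClass_cls] at hh
    exact (Q_map_eq_zero_iff g).mp ((hduMap_bijective U j _).1 (hh.trans (map_zero _).symm))
  · obtain ⟨x, rfl⟩ := (hduMap_bijective U j _).2 y
    obtain ⟨g, rfl⟩ := DerLib.KInjUse.Q_map_surjective (gen J U j) I x
    exact ⟨cls g, hduOfClass_cls g⟩

variable (I) in
/-- The cohomology presheaf is the cohomology of the sections of a K-injective complex. -/
noncomputable def hduPresheafIso (j : ℤ) : hpsh I j ≅ CohCx.HDUPresheaf (DerivedCategory.Q.obj I) j :=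
  NatIso.ofComponents
    (fun U => (AddEquiv.ofBijective (hduOfClass I U.unop j) (bijective_hduOfClass U.unop j)).toAddCommGrpIso)
    fun {U V} f => by
      ext h
      obtain ⟨g, rfl⟩ := cls_surjective I U.unop j h
      change hduOfClass I V.unop j ((hpsh I j).map f (cls g)) =
        (DerivedCategory.singleFunctor _ 0).map (CohCx.freeSheafMap J f.unop) ≫ hduOfClass I U.unop j (cls g)
      refine (congrArg (hduOfClass I V.unop j) (cls_genMap f.unop g).symm).trans ?_
      rw [hduOfClass_cls, hduOfClass_cls, ← hduMap_dgenMap, Functor.map_comp]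
      rfl

/-- Homology is sheafified homology of sections. -/
theorem nonempty_sheafify_hpsh_iso (I : CochainComplex (Sheaf J AddCommGrpCat.{u}) ℤ) (j : ℤ) :
    Nonempty ((presheafToSheaf J AddCommGrpCat.{u}).obj (hpsh I j) ≅ I.homology j) := by
  let a := presheafToSheaf J AddCommGrpCat.{u}
  haveI : a.Additive := (sheafificationAdjunction J AddCommGrpCat.{u}).left_adjoint_additive
  haveI : a.PreservesHomology := inferInstance
  exact ⟨(((I.sc j).map (Psec J)).mapHomologyIso a).symm ≪≫
    ShortComplex.homologyMapIso ((I.sc j).mapNatIso (asIso (sheafificationAdjunction J AddCommGrpCat.{u}).counit))⟩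

end Groth.Agent.AbSiteDerLib
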