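import Groth.Agent.AbSiteDerLib.ThetaBij
import Mathlib.CategoryTheory.Limits.Types.Limits
import Mathlib.Algebra.Category.Grp.Limits

/-!
# Milnor sequences and cohomology sheaves of derived limits
-/

set_option linter.unusedSectionVars false
set_option linter.style.haveILetI false
set_option backward.isDefEq.respectTransparency false

universe w v u

open CategoryTheory Limits Pretriangulated
open Opposite (op unop)

namespace Groth.Agent.AbSiteDerLib

section Triangulated

variable {T : Type*} [Category T] [Preadditive T] [HasZeroObject T] [HasShift T ℤ]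
  [∀ n : ℤ, (shiftFunctor T n).Additive] [Pretriangulated T]
  {K : ℕ → T} {t : ∀ n, K (n + 1) ⟶ K n} [HasProduct K] {L : T} {a : ∀ n, L ⟶ K n}

/-- Compatible maps lift to a derived limit. -/
theorem exists_lift_rlim (hL : CohCx.IsRlimVia K t L a) {Z : T} (y : ∀ n, Z ⟶ K n)
    (hy : ∀ n, y (n + 1) ≫ t n = y n) : ∃ g : Z ⟶ L, ∀ n, g ≫ a n = y n := by
  obtain ⟨c, hc⟩ := hL
  have hy0 : Pi.lift y ≫ Pi.lift (fun n => Pi.π K n - Pi.π K (n + 1) ≫ t n) = 0 :=
    Limits.Pi.hom_ext _ _ fun k => by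
      simp only [Category.assoc, Pi.lift_π, Preadditive.comp_sub, Pi.lift_π_assoc, zero_comp, hy,
        sub_self]
  obtain ⟨g, hg⟩ := Triangle.coyoneda_exact₂ _ hc (Pi.lift y) hy0
  refine ⟨g, fun n => ?_⟩
  replace hg : Pi.lift y = g ≫ Pi.lift a := hg
  refine (congrArg (g ≫ ·) (Pi.lift_π (f := K) a n).symm).trans ((Category.assoc _ _ _).symm.trans ?_)
  exact (congrArg (· ≫ Pi.π K n) hg.symm).trans (Pi.lift_π _ _)

/-- A map to a derived limit is zero when all its components are and the lim¹ vanishes. -/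
theorem eq_zero_of_rlim (hL : CohCx.IsRlimVia K t L a) {Z : T}
    (h1 : Function.Surjective fun (v : ∀ n, Z⟦(1 : ℤ)⟧ ⟶ K n) (n : ℕ) => v n - v (n + 1) ≫ t n)
    (s : Z ⟶ L) (hs : ∀ n, s ≫ a n = 0) : s = 0 := by
  obtain ⟨c, hc⟩ := hL
  have hlift : s ≫ Pi.lift a = 0 := Limits.Pi.hom_ext _ _ fun k => by
    rw [Category.assoc, Pi.lift_π, zero_comp, hs]
  obtain ⟨w, hw⟩ := Triangle.coyoneda_exact₁ _ hc (s⟦(1 : ℤ)⟧')
    (by
      show (shiftFunctor T (1 : ℤ)).map s ≫ (shiftFunctor T (1 : ℤ)).map (Pi.lift a) = 0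
      rw [← Functor.map_comp, hlift, Functor.map_zero])
  replace hw : s⟦(1 : ℤ)⟧' = w ≫ c := hw
  obtain ⟨v, hv⟩ := h1 fun n => w ≫ Pi.π K n
  have hwv : w = Pi.lift v ≫ Pi.lift (fun n => Pi.π K n - Pi.π K (n + 1) ≫ t n) :=
    Limits.Pi.hom_ext _ _ fun k => by
      simp only [Category.assoc, Pi.lift_π, Preadditive.comp_sub, Pi.lift_π_assoc]
      exact (congrFun hv k).symm
  apply (shiftFunctor T (1 : ℤ)).map_injective
  rw [Functor.map_zero, hw, hwv]
  exact (Category.assoc _ _ _).trans
    ((congrArg (Pi.lift v ≫ ·) (comp_distTriang_mor_zero₂₃ _ hc)).trans comp_zero)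

end Triangulated

/-- Transfer of the vanishing of `R¹lim` along compatible bijections. -/
theorem surjective_limOne_of_equiv {A B : ℕ → Type*} [∀ n, AddCommGroup (A n)] [∀ n, AddCommGroup (B n)]
    (tA : ∀ n, A (n + 1) → A n) (tB : ∀ n, B (n + 1) → B n) (φ : ∀ n, A n →+ B n)
    (hφ : ∀ n, Function.Bijective (φ n)) (hc : ∀ n x, φ n (tA n x) = tB n (φ (n + 1) x))
    (h : Function.Surjective fun (b : ∀ n, B n) (n : ℕ) => b n - tB n (b (n + 1))) :
    Function.Surjective fun (a : ∀ n, A n) (n : ℕ) => a n - tA n (a (n + 1)) := by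
  intro w
  obtain ⟨b, hb⟩ := h fun n => φ n (w n)
  choose a ha using fun n => (hφ n).2 (b n)
  refine ⟨a, funext fun n => (hφ n).1 ?_⟩
  rw [map_sub, hc, ha, ha]
  exact congrFun hb n

open DerivedCategory

variable {C : Type u} [SmallCategory C] {J : GrothendieckTopology C}

/-- Sections as a functor on sheaves. -/
noncomputable abbrev secFun (J : GrothendieckTopology C) (U : C) :
    Sheaf J AddCommGrpCat.{u} ⥤ AddCommGrpCat.{u} :=
  sheafToPresheaf J AddCommGrpCat.{u} ⋙ (evaluation Cᵒᵖ AddCommGrpCat.{u}).obj (op U)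

instance hasLimitsOfShape_nat : HasLimitsOfShape ℕᵒᵖ (Sheaf J AddCommGrpCat.{u}) :=
  have : HasLimitsOfSize.{0, 0} (Sheaf J AddCommGrpCat.{u}) := hasLimitsOfSizeShrink.{0, 0} _
  inferInstance

variable (F : ℕ → Sheaf J AddCommGrpCat.{u}) (τ : ∀ n, F (n + 1) ⟶ F n)

theorem exists_limit_sec (U : C) (s : ∀ n, (F n).obj.obj (op U))
    (hs : ∀ n, (τ n).hom.app (op U) (s (n + 1)) = s n) :
    ∃ x : (limit (CohCx.opSequence F τ)).obj.obj (op U),
      ∀ n, (limit.π (CohCx.opSequence F τ) (op n)).hom.app (op U) x = s n := by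
  let M := CohCx.opSequence F τ
  have : PreservesLimitsOfShape ℕᵒᵖ (secFun J U) := comp_preservesLimitsOfShape _ _
  let hc := isLimitOfPreserves (forget AddCommGrpCat.{u}) (isLimitOfPreserves (secFun J U) (limit.isLimit M))
  have hstep : ∀ n, (M.map (homOfLE (Nat.le_succ n)).op).hom.app (op U) (s (n + 1)) = s n := fun n => by
    rw [Functor.ofOpSequence_map_homOfLE_succ]
    exact hs n
  have key : ∀ d (m n : ℕ) (h : n + d = m),
      (M.map (homOfLE (h ▸ Nat.le_add_right n d)).op).hom.app (op U) (s m) = s n := by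
    intro d
    induction d with
    | zero =>
      intro m n h
      obtain rfl : n = m := h
      exact ConcreteCategory.congr_hom (congrArg (fun φ => φ.hom.app (op U)) (M.map_id (op n))) (s n)
    | succ d ih =>
      intro m n h
      have e : M.map (homOfLE (h ▸ Nat.le_add_right n (d + 1))).op =
          M.map (homOfLE (show n + 1 ≤ m by omega)).op ≫ M.map (homOfLE (Nat.le_succ n)).op := by
        rw [← Functor.map_comp, ← op_comp]
        rfl
      refine (ConcreteCategory.congr_hom (congrArg (fun φ => φ.hom.app (op U)) e) (s m)).trans ?_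
      exact (congrArg ((M.map (homOfLE (Nat.le_succ n)).op).hom.app (op U)) (ih m (n + 1) (by omega))).trans
        (hstep n)
  let σ : ((M ⋙ secFun J U) ⋙ forget AddCommGrpCat.{u}).sections :=
    ⟨fun n => s n.unop, fun {m n} f => by
      obtain ⟨d, hd⟩ := Nat.le.dest (leOfHom f.unop)
      exact key d m.unop n.unop hd⟩
  exact ⟨(Types.isLimitEquivSections hc).symm σ, fun n =>
    Types.isLimitEquivSections_symm_apply hc σ (op n)⟩

theorem limit_sec_ext (U : C) (s s' : (limit (CohCx.opSequence F τ)).obj.obj (op U))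
    (h : ∀ n, (limit.π (CohCx.opSequence F τ) (op n)).hom.app (op U) s =
      (limit.π (CohCx.opSequence F τ) (op n)).hom.app (op U) s') : s = s' := by
  have : PreservesLimitsOfShape ℕᵒᵖ (secFun J U) := comp_preservesLimitsOfShape _ _
  exact Concrete.isLimit_ext _ (isLimitOfPreserves (secFun J U) (limit.isLimit (CohCx.opSequence F τ)))
    s s' fun n => h n.unop

theorem limit_π_comp (U : C) (x : (limit (CohCx.opSequence F τ)).obj.obj (op U)) (n : ℕ) :
    (τ n).hom.app (op U) ((limit.π (CohCx.opSequence F τ) (op (n + 1))).hom.app (op U) x) =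
      (limit.π (CohCx.opSequence F τ) (op n)).hom.app (op U) x := by
  have h := limit.w (CohCx.opSequence F τ) (homOfLE (Nat.le_succ n)).op
  rw [Functor.ofOpSequence_map_homOfLE_succ] at h
  exact ConcreteCategory.congr_hom (congrArg (fun φ => φ.hom.app (op U)) h) x

variable [HasDerivedCategory.{w} (Sheaf J AddCommGrpCat.{u})]
variable {K : ℕ → DerivedCategory (Sheaf J AddCommGrpCat.{u})} {t : ∀ n, K (n + 1) ⟶ K n}
  [HasProduct K] {L : DerivedCategory (Sheaf J AddCommGrpCat.{u})} {a : ∀ n, L ⟶ K n}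

/-- The cone of cohomology sheaves. -/
noncomputable def coneH (hL : CohCx.IsRlimVia K t L a) (q : ℤ) :
    Cone (CohCx.opSequence (fun n => (Hd J q).obj (K n)) (fun n => (Hd J q).map (t n))) where
  pt := (Hd J q).obj L
  π := NatTrans.ofOpSequence (F := (Functor.const ℕᵒᵖ).obj ((Hd J q).obj L))
    (G := CohCx.opSequence (fun n => (Hd J q).obj (K n)) (fun n => (Hd J q).map (t n)))
    (fun n => (Hd J q).map (a n)) fun n => by
      rw [Functor.ofOpSequence_map_homOfLE_succ, ← Functor.map_comp,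
        ModCohLib.IsRlimVia.comp_eq hL n]
      exact Category.id_comp _

/-- The comparison with the limit of the cohomology sheaves. -/
noncomputable def toLimH (hL : CohCx.IsRlimVia K t L a) (q : ℤ) :
    (Hd J q).obj L ⟶ limit (CohCx.opSequence (fun n => (Hd J q).obj (K n)) (fun n => (Hd J q).map (t n))) :=
  limit.lift _ (coneH hL q)

theorem toLimH_π (hL : CohCx.IsRlimVia K t L a) (q : ℤ) (U : C) (s : ((Hd J q).obj L).obj.obj (op U)) (n : ℕ) :
    (limit.π (CohCx.opSequence (fun n => (Hd J q).obj (K n)) (fun n => (Hd J q).map (t n))) (op n)).hom.app (op U)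
      ((toLimH hL q).hom.app (op U) s) = ((Hd J q).map (a n)).hom.app (op U) s := by
  have h : toLimH hL q ≫ limit.π _ (op n) = (Hd J q).map (a n) := limit.lift_π (coneH hL q) (op n)
  exact ConcreteCategory.congr_hom (congrArg (fun φ : (Hd J q).obj L ⟶ (Hd J q).obj (K n) => φ.hom.app (op U)) h) s

/-- The cohomology sheaves of a derived limit of a system acyclic on a basis. -/
theorem isIso_toLimH (hL : CohCx.IsRlimVia K t L a) (B : Set C)
    (hB : ∀ U : C, ∃ (ι : Type u) (Y : ι → C) (g : ∀ i, Y i ⟶ U), Sieve.ofArrows Y g ∈ J U ∧ ∀ i, Y i ∈ B)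
    (q : ℤ)
    (hθ : ∀ U ∈ B, ∀ (n : ℕ), Function.Bijective (theta U q (K n)))
    (hlim : ∀ U ∈ B, Function.Surjective fun (v : ∀ n, (dgen J U q)⟦(1 : ℤ)⟧ ⟶ K n) (n : ℕ) =>
      v n - v (n + 1) ≫ t n) :
    IsIso (toLimH hL q) := by
  have hinj : Presheaf.IsLocallyInjective J (toLimH hL q).hom := by
    constructor
    intro U s s' h
    obtain ⟨S, hS, hx⟩ := theta_locallySurjective L q U.unop (s - s')
    refine J.transitive hS _ fun V f hf => ?_
    obtain ⟨x, hxe⟩ := hx V f hf
    obtain ⟨ι, YY, g, hg, hY⟩ := hB V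
    refine J.superset_covering ?_ hg
    rintro Z z ⟨_, b, _, ⟨i⟩, rfl⟩
    refine Sieve.downward_closed _ ?_ b
    show ((Hd J q).obj L).obj.map (g i ≫ f).op s = ((Hd J q).obj L).obj.map (g i ≫ f).op s'
    rw [← sub_eq_zero, ← map_sub, op_comp, Functor.map_comp]
    refine (congrArg (((Hd J q).obj L).obj.map (g i).op) hxe.symm).trans ?_
    rw [← theta_res]
    have hx0 : dgenMap (g i) q ≫ x = 0 := by
      refine eq_zero_of_rlim hL (hlim (YY i) (hY i)) _ fun n => (hθ (YY i) (hY i) n).1 ?_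
      rw [map_zero, theta_comp, theta_res, NatTrans.naturality_apply]
      refine (congrArg (((Hd J q).obj (K n)).obj.map (g i).op) ?_).trans (map_zero _)
      rw [hxe, NatTrans.naturality_apply, map_sub]
      have h' := congrArg ((limit.π (CohCx.opSequence (fun n => (Hd J q).obj (K n))
        (fun n => (Hd J q).map (t n))) (op n)).hom.app U) h
      refine (congrArg (((Hd J q).obj (K n)).obj.map f.op) (sub_eq_zero.mpr ?_)).trans (map_zero _)
      exact (toLimH_π hL q U.unop s n).symm.trans (h'.trans (toLimH_π hL q U.unop s' n))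
    rw [hx0, map_zero]
  have hsurj : Presheaf.IsLocallySurjective J (toLimH hL q).hom := by
    constructor
    intro U s
    obtain ⟨ι, YY, g, hg, hY⟩ := hB U
    refine J.superset_covering ?_ hg
    rintro Z z ⟨_, b, _, ⟨i⟩, rfl⟩
    refine Sieve.downward_closed _ ?_ b
    let s' := (limit (CohCx.opSequence (fun n => (Hd J q).obj (K n))
      (fun n => (Hd J q).map (t n)))).obj.map (g i).op s
    choose y hy using fun n => (hθ (YY i) (hY i) n).2
      ((limit.π (CohCx.opSequence (fun n => (Hd J q).obj (K n)) (fun n => (Hd J q).map (t n))) (op n)).hom.app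
        (op (YY i)) s')
    obtain ⟨x, hx⟩ := exists_lift_rlim hL y fun n => (hθ (YY i) (hY i) n).1 (by
      rw [theta_comp, hy, hy]
      exact limit_π_comp _ _ (YY i) s' n)
    refine ⟨theta (YY i) q L x, limit_sec_ext _ _ (YY i) _ _ fun n => ?_⟩
    rw [toLimH_π, ← theta_comp, hx, hy]
  haveI : Sheaf.IsLocallyInjective (toLimH hL q) := hinj
  haveI : Sheaf.IsLocallySurjective (toLimH hL q) := hsurj
  exact (Sheaf.isLocallyBijective_iff_isIso (toLimH hL q)).mp ⟨hinj, hsurj⟩

end Groth.Agent.AbSiteDerLib
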