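/-
Vanishing of maps out of free modules from vanishing of cohomology.
-/
import Groth.Agent.AbSiteDerLib.IsoCrit
import Groth.Agent.CohLib.Objects
import Groth.Agent.CohLib.Sections
import Groth.Agent.DerLib.Devissage
import Mathlib.Algebra.Homology.DerivedCategory.Ext.Basic

set_option linter.unusedSectionVars false
set_option linter.style.haveILetI false
set_option backward.isDefEq.respectTransparency false

universe w u

open CategoryTheory Limits CategoryTheory.Abelian
open Opposite (op unop)

namespace Groth.Agent.AbSiteDerLib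

open ModCohLib (CofinalCover LocFactor)

variable {C : Type u} [SmallCategory C] {J : GrothendieckTopology C}

variable [HasDerivedCategory.{w} (Sheaf J AddCommGrpCat.{u})]

theorem dgen_hom_single_eq_zero (M : Sheaf J AddCommGrpCat.{u}) (Y : C) (j m : ℤ) (k : ℕ) (h : m + k = j)
    (hM : Subsingleton (CohSite.HU M k Y))
    (x : dgen J Y j ⟶ (DerivedCategory.singleFunctor (Sheaf J AddCommGrpCat.{u}) m).obj M) : x = 0 := by
  haveI : HasExt.{u} (Sheaf J AddCommGrpCat.{u}) := hasExt_of_enoughInjectives.{u} _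
  haveI : Subsingleton (Ext.{u} (freeAb J Y) M k) := hM
  let G := fun n => DerivedCategory.singleFunctor (Sheaf J AddCommGrpCat.{u}) n
  haveI : Subsingleton ((G 0).obj (freeAb J Y) ⟶ ((G 0).obj M)⟦(k : ℤ)⟧) :=
    Ext.homEquiv.symm.subsingleton
  let sI := fun (n a a' : ℤ) (ha : n + a = a') (P : Sheaf J AddCommGrpCat.{u}) =>
    ((DerivedCategory.singleFunctors (Sheaf J AddCommGrpCat.{u})).shiftIso n a a' ha).app P
  apply (shiftFunctor (DerivedCategory (Sheaf J AddCommGrpCat.{u})) j).map_injective
  rw [Functor.map_zero]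
  let eS := sI j 0 j (by omega) (freeAb J Y)
  let eT := sI j (-(k : ℤ)) m (by omega) M ≪≫ (sI k (-(k : ℤ)) 0 (by omega) M).symm
  rw [← cancel_epi eS.inv, ← cancel_mono eT.hom]
  exact (inferInstance : Subsingleton ((G 0).obj (freeAb J Y) ⟶ ((G 0).obj M)⟦(k : ℤ)⟧)).elim _ _

theorem dgen_hom_eq_zero_of_isGE (Y : C) (j : ℤ) (X : DerivedCategory (Sheaf J AddCommGrpCat.{u})) [X.IsGE (j + 1)]
    (x : dgen J Y j ⟶ X) : x = 0 :=
  haveI : (dgen J Y j).IsLE j := inferInstance
  DerivedCategory.TStructure.t.zero x j (j + 1) (by omega)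

open DerivedCategory DerivedCategory.TStructure Pretriangulated in
/-- Devissage: a map out of the free module to a bounded below object vanishes if the maps to its
cohomology objects vanish. -/
theorem dgen_hom_eq_zero_of_single (Y : C) (j a : ℤ) (X : DerivedCategory (Sheaf J AddCommGrpCat.{u})) [X.IsGE a]
    (h : ∀ m ≤ j, ∀ y : dgen J Y j ⟶
      (singleFunctor (Sheaf J AddCommGrpCat.{u}) m).obj ((homologyFunctor (Sheaf J AddCommGrpCat.{u}) m).obj X), y = 0)
    (x : dgen J Y j ⟶ X) : x = 0 := by
  obtain ⟨k, hk⟩ : ∃ k : ℕ, j + 1 ≤ a + k := ⟨(j + 1 - a).toNat, by omega⟩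
  induction k generalizing a X with
  | zero =>
    haveI : X.IsGE (j + 1) := t.isGE_of_ge X (j + 1) a (by omega)
    exact dgen_hom_eq_zero_of_isGE Y j X x
  | succ k ih =>
    by_cases hja : j < a
    · haveI : X.IsGE (j + 1) := t.isGE_of_ge X (j + 1) a (by omega)
      exact dgen_hom_eq_zero_of_isGE Y j X x
    have hT := t.triangleLEGT_distinguished a X
    haveI hG : ((t.truncGT a).obj X).IsGE (a + 1) := inferInstance
    have hxπ : x ≫ (t.truncGTπ a).app X = 0 := by
      refine ih (a + 1) _ (fun m hm y => ?_) _ (by omega)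
      by_cases hma : a < m
      · haveI := DerLib.Devissage.isIso_homology_truncGTπ X a m hma
        let e := (singleFunctor (Sheaf J AddCommGrpCat.{u}) m).mapIso
          (asIso ((homologyFunctor (Sheaf J AddCommGrpCat.{u}) m).map ((t.truncGTπ a).app X)))
        rw [← cancel_mono e.inv, zero_comp]
        exact h m hm _
      · exact (((singleFunctor (Sheaf J AddCommGrpCat.{u}) m).map_isZero
          (isZero_of_isGE ((t.truncGT a).obj X) (a + 1) m (by omega))).eq_of_tgt _ _)
    obtain ⟨y, hy⟩ := Triangle.coyoneda_exact₂ _ hT x hxπ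
    haveI : ((t.truncLE a).obj X).IsGE a := by
      rw [isGE_iff]
      intro i hi
      haveI := DerLib.Devissage.isIso_homology_truncLEι X a i (by omega)
      exact (isZero_of_isGE X a i hi).of_iso
        (asIso ((homologyFunctor _ i).map ((t.truncLEι a).app X)))
    obtain ⟨e⟩ := DerLib.Devissage.nonempty_iso_single ((t.truncLE a).obj X) a
    haveI := DerLib.Devissage.isIso_homology_truncLEι X a a le_rfl
    let e' := e ≪≫ (singleFunctor (Sheaf J AddCommGrpCat.{u}) a).mapIso
      (asIso ((homologyFunctor _ a).map ((t.truncLEι a).app X)))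
    have : y = 0 := by
      rw [← cancel_mono e'.hom, zero_comp]
      exact h a (by omega) _
    rw [hy, this]
    exact zero_comp

open DerivedCategory in
/-- Vanishing of the cohomology over `Y` of the cohomology objects kills maps out of the free module. -/
theorem dgen_hom_eq_zero (Y : C) (j a : ℤ) (X : DerivedCategory (Sheaf J AddCommGrpCat.{u})) [X.IsGE a]
    (h : ∀ (m : ℤ) (k : ℕ), m + k = j →
      Subsingleton (CohSite.HU ((homologyFunctor (Sheaf J AddCommGrpCat.{u}) m).obj X) k Y))
    (x : dgen J Y j ⟶ X) : x = 0 :=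
  dgen_hom_eq_zero_of_single Y j a X (fun m hm y => by
    obtain ⟨k, hk⟩ : ∃ k : ℕ, m + k = j := ⟨(j - m).toNat, by omega⟩
    exact dgen_hom_single_eq_zero _ Y j m k hk (h m k hk) y) x

theorem subsingleton_HU_of_isZero {M : Sheaf J AddCommGrpCat.{u}} (hM : IsZero M) (k : ℕ) (Y : C) :
    Subsingleton (CohSite.HU M k Y) := by
  refine subsingleton_of_forall_eq (0 : Ext.{u} (freeAb J Y) M k) fun z => ?_
  change z = 0
  have := Ext.comp_mk₀_id z
  rw [hM.eq_of_src (𝟙 M) 0, Ext.mk₀_zero, Ext.comp_zero] at this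
  exact this.symm

theorem subsingleton_HU_of_iso {M N : Sheaf J AddCommGrpCat.{u}} (e : M ≅ N) (k : ℕ) (Y : C)
    (h : Subsingleton (CohSite.HU N k Y)) : Subsingleton (CohSite.HU M k Y) :=
  ((((Sheaf.cohomologyPresheafFunctor J k).mapIso e)).app (op Y)).addCommGroupIsoToAddEquiv.toEquiv.subsingleton

end Groth.Agent.AbSiteDerLib
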