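/-
Cohomology sheaves of derived limits of eventually stationary towers of modules.
-/
import Groth.Agent.AbSiteDerLib.Vanish
import Groth.Agent.ModCohLib.Milnor
import Groth.Agent.DerLib.WeakSerreTri

set_option linter.unusedSectionVars false
set_option linter.style.haveILetI false
set_option backward.isDefEq.respectTransparency false

universe w u

open CategoryTheory Limits Pretriangulated DerivedCategory DerivedCategory.TStructure
open Opposite (op unop)

namespace Groth.Agent.AbSiteDerLib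

open ModCohLib (CofinalCover LocFactor)

variable {C : Type u} [SmallCategory C] {J : GrothendieckTopology C}
  [HasDerivedCategory.{w} (Sheaf J AddCommGrpCat.{u})]

theorem hom_shift_eq_zero (Y : C) (j : ℤ) {X : DerivedCategory (Sheaf J AddCommGrpCat.{u})}
    (h : ∀ x : dgen J Y (j - 1) ⟶ X, x = 0) (x : (dgen J Y j)⟦(1 : ℤ)⟧ ⟶ X) : x = 0 := by
  let e := ((singleFunctors (Sheaf J AddCommGrpCat.{u})).shiftIso 1 (j - 1) j (by omega)).app (freeAb J Y)
  rw [← cancel_epi e.inv, comp_zero]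
  exact h _

/-- A map whose cone receives no maps from the free module induces bijections. -/
theorem genBij_of_triangle (T : Triangle (DerivedCategory (Sheaf J AddCommGrpCat.{u}))) (hT : T ∈ distTriang _)
    (Y : C) (j : ℤ) (h₀ : ∀ x : dgen J Y j ⟶ T.obj₃, x = 0)
    (h₁ : ∀ x : dgen J Y (j - 1) ⟶ T.obj₃, x = 0) :
    GenBij T.mor₁ j Y ∧
      Function.Surjective fun x : (dgen J Y j)⟦(1 : ℤ)⟧ ⟶ T.obj₁ => x ≫ T.mor₁ := by
  refine ⟨⟨?_, fun y => ?_⟩, fun y => ?_⟩
  · suffices h : ∀ y : dgen J Y j ⟶ T.obj₁, y ≫ T.mor₁ = 0 → y = 0 by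
      intro x x' e
      exact sub_eq_zero.1 (h _ (by rw [Preadditive.sub_comp, sub_eq_zero]; exact e))
    intro y hy
    obtain ⟨g, hg⟩ := Triangle.coyoneda_exact₁ T hT (y⟦(1 : ℤ)⟧')
      (by rw [← Functor.map_comp, hy, Functor.map_zero])
    apply (shiftFunctor _ (1 : ℤ)).map_injective
    rw [Functor.map_zero, hg, hom_shift_eq_zero Y j h₁ g, zero_comp]
  · obtain ⟨x, hx⟩ := Triangle.coyoneda_exact₂ T hT y (h₀ _)
    exact ⟨x, hx.symm⟩
  · obtain ⟨x, hx⟩ := Triangle.coyoneda_exact₂ T hT y (hom_shift_eq_zero Y j h₁ _)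
    exact ⟨x, hx.symm⟩

theorem isGE_obj₃ (T : Triangle (DerivedCategory (Sheaf J AddCommGrpCat.{u}))) (hT : T ∈ distTriang _)
    (a : ℤ) [T.obj₁.IsGE a] [T.obj₂.IsGE a] : T.obj₃.IsGE (a - 1) := by
  rw [isGE_iff]
  intro i hi
  exact (HomologySequence.exact₃ T hT i (i + 1) rfl).isZero_of_both_zeros
    ((isZero_of_isGE T.obj₂ a i (by omega)).eq_of_src _ _)
    ((isZero_of_isGE T.obj₁ a (i + 1) (by omega)).eq_of_tgt _ _)

theorem isZero_homology_obj₃ (T : Triangle (DerivedCategory (Sheaf J AddCommGrpCat.{u}))) (hT : T ∈ distTriang _)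
    (m : ℤ) [IsIso ((homologyFunctor (Sheaf J AddCommGrpCat.{u}) m).map T.mor₁)]
    [IsIso ((homologyFunctor (Sheaf J AddCommGrpCat.{u}) (m + 1)).map T.mor₁)] :
    IsZero ((homologyFunctor (Sheaf J AddCommGrpCat.{u}) m).obj T.obj₃) := by
  haveI : Epi ((homologyFunctor (Sheaf J AddCommGrpCat.{u}) m).map T.mor₁) := inferInstance
  refine (HomologySequence.exact₃ T hT m (m + 1) rfl).isZero_of_both_zeros
    ((HomologySequence.epi_homologyMap_mor₁_iff T hT m).1 inferInstance) ?_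
  have h := HomologySequence.exact₁ T hT m (m + 1) rfl
  exact (cancel_mono ((homologyFunctor (Sheaf J AddCommGrpCat.{u}) (m + 1)).map T.mor₁)).1
    ((HomologySequence.δ_comp T hT m (m + 1) rfl).trans zero_comp.symm)

/-- The cohomology sheaves of a derived limit whose transition maps are eventually bijective on
sections over a cofinal system of coverings, locally on the site. -/
theorem isIso_homology_rlim (B : Set C)
    (hB : ∀ U : C, ∃ (ι : Type u) (Y : ι → C) (g : ∀ i, Y i ⟶ U), Sieve.ofArrows Y g ∈ J U ∧ ∀ i, Y i ∈ B)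
    (K : ℕ → DerivedCategory (Sheaf J AddCommGrpCat.{u})) (t : ∀ n, K (n + 1) ⟶ K n) [HasProduct K]
    (L : DerivedCategory (Sheaf J AddCommGrpCat.{u})) (a : ∀ n, L ⟶ K n) (hL : CohCx.IsRlimVia K t L a) (j : ℤ)
    (n₁ : ℕ) (hconst : ∀ n, n₁ ≤ n → IsIso ((homologyFunctor (Sheaf J AddCommGrpCat.{u}) j).map (t n)))
    (h : ∀ V ∈ B, ∃ n₀ : ℕ, CofinalCover J (fun Y => ∀ n, n₀ ≤ n →
      GenBij (t n) j Y ∧
        Function.Surjective fun x : (dgen J Y j)⟦(1 : ℤ)⟧ ⟶ K (n + 1) => x ≫ t n) V) :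
    ∀ n, n₁ ≤ n → IsIso ((homologyFunctor (Sheaf J AddCommGrpCat.{u}) j).map (a n)) := by
  intro n hn
  refine isIso_of_locally (a n) j fun U => ?_
  obtain ⟨ι, V, g, hg, hV⟩ := hB U
  refine ⟨ι, V, g, hg, fun i => ?_⟩
  obtain ⟨n₀, h₀⟩ := h (V i) (hV i)
  have comp : ∀ d, ∃ b : K (n + d) ⟶ K n, a n = a (n + d) ≫ b ∧
      IsIso ((homologyFunctor (Sheaf J AddCommGrpCat.{u}) j).map b) := by
    intro d
    induction d with
    | zero => exact ⟨𝟙 _, (Category.comp_id _).symm, inferInstance⟩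
    | succ d ih =>
      obtain ⟨b, hb, hb'⟩ := ih
      haveI := hb'
      haveI := hconst (n + d) (by omega)
      refine ⟨t (n + d) ≫ b, ?_, by rw [Functor.map_comp]; infer_instance⟩
      rw [hb, ← ModCohLib.IsRlimVia.comp_eq hL (n + d), Category.assoc]
      rfl
  obtain ⟨b, hb, hb'⟩ := comp n₀
  exact ⟨_, a (n + n₀), b, hb, hb', h₀.mono _ fun Y hY =>
    ModCohLib.IsRlimVia.bijective hL (dgen J Y j) n₀ (fun m hm => (hY m hm).1) (fun m hm => (hY m hm).2)
      (n + n₀) (by omega)⟩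

end Groth.Agent.AbSiteDerLib
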