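import Groth.Agent.AbSiteDerLib.Milnor
import Groth.Prelude.Def_CohTop
import Groth.Prelude.Def_DCoh2

/-!
# Derived limits of systems acyclic on a basis
-/

set_option linter.unusedSectionVars false
set_option linter.style.haveILetI false
set_option backward.isDefEq.respectTransparency false

universe w u

open CategoryTheory Limits Pretriangulated DerivedCategory
open Opposite (op unop)

namespace Groth.Agent.AbSiteDerLib

variable {C : Type u} [SmallCategory C] {J : GrothendieckTopology C}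
  [HasDerivedCategory.{w} (Sheaf J AddCommGrpCat.{u})]

/-- A shifted generator is a generator. -/
noncomputable def shiftDgen (J : GrothendieckTopology C) [HasDerivedCategory.{w} (Sheaf J AddCommGrpCat.{u})]
    (U : C) (q : ℤ) : (dgen J U q)⟦(1 : ℤ)⟧ ≅ dgen J U (q - 1) :=
  ((singleFunctors (Sheaf J AddCommGrpCat.{u})).shiftIso 1 (q - 1) q (by omega)).app (freeAb J U)

theorem exists_isRlimVia {K : ℕ → DerivedCategory (Sheaf J AddCommGrpCat.{u})}
    {t : ∀ n, K (n + 1) ⟶ K n} [HasProduct K] {L : DerivedCategory (Sheaf J AddCommGrpCat.{u})}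
    (hL : DCoh.IsRlim K t L) : ∃ a : ∀ n, L ⟶ K n, CohCx.IsRlimVia K t L a := by
  obtain ⟨a, c, hc⟩ := hL
  refine ⟨fun n => a ≫ Pi.π K n, c, ?_⟩
  have h : Pi.lift (fun n => a ≫ Pi.π K n) = a := Limits.Pi.hom_ext _ _ fun n => by simp
  rw [h]
  exact hc

/-- The vanishing of `R¹lim` on sections gives that on maps out of shifted generators. -/
theorem surjective_limOne_dgen {K : ℕ → DerivedCategory (Sheaf J AddCommGrpCat.{u})}
    (t : ∀ n, K (n + 1) ⟶ K n) (U : C) (q : ℤ)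
    (hθ : ∀ n, Function.Bijective (theta U (q - 1) (K n)))
    (h : CohCx.LimOneIsZero (fun n => ((Hd J (q - 1)).obj (K n)).obj.obj (op U))
      (fun n => (((Hd J (q - 1)).map (t n)).hom.app (op U)).hom)) :
    Function.Surjective fun (v : ∀ n, (dgen J U q)⟦(1 : ℤ)⟧ ⟶ K n) (n : ℕ) => v n - v (n + 1) ≫ t n :=
  surjective_limOne_of_equiv (A := fun n => (dgen J U q)⟦(1 : ℤ)⟧ ⟶ K n)
    (B := fun n => (↑(((Hd J (q - 1)).obj (K n)).obj.obj (op U)) : Type u))
    (fun n x => x ≫ t n) (fun n b => (((Hd J (q - 1)).map (t n)).hom.app (op U)).hom b)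
    (fun n => (theta U (q - 1) (K n)).comp (Preadditive.leftComp (K n) (shiftDgen J U q).inv))
    (fun n => (hθ n).comp (shiftDgen J U q).homFromEquiv.bijective)
    (fun n x => by
      change theta U (q - 1) (K n) ((shiftDgen J U q).inv ≫ x ≫ t n) = _
      rw [← Category.assoc, theta_comp]
      rfl) h

/-- Cohomology sheaves of a derived limit are limits of cohomology sheaves. -/
theorem nonempty_HD_rlim_iso {K : ℕ → DerivedCategory (Sheaf J AddCommGrpCat.{u})}
    (t : ∀ n, K (n + 1) ⟶ K n) [HasProduct K] {L : DerivedCategory (Sheaf J AddCommGrpCat.{u})}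
    (hL : DCoh.IsRlim K t L) (B : Set C)
    (hB : ∀ U : C, ∃ (ι : Type u) (Y : ι → C) (g : ∀ i, Y i ⟶ U), Sieve.ofArrows Y g ∈ J U ∧ ∀ i, Y i ∈ B)
    (h1 : ∀ U ∈ B, ∀ (p : ℕ) (q : ℤ) (n : ℕ), Subsingleton (CohSite.HU ((Hd J q).obj (K n)) (p + 1) U))
    (h2 : ∀ U ∈ B, ∀ (q : ℤ), CohCx.LimOneIsZero (fun n => ((Hd J q).obj (K n)).obj.obj (op U))
      (fun n => (((Hd J q).map (t n)).hom.app (op U)).hom)) (q : ℤ) :
    Nonempty ((Hd J q).obj L ≅
      limit (CohCx.opSequence (fun n => (Hd J q).obj (K n)) (fun n => (Hd J q).map (t n)))) := by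
  obtain ⟨a, ha⟩ := exists_isRlimVia hL
  have hθ : ∀ (q : ℤ), ∀ U ∈ B, ∀ n, Function.Bijective (theta U q (K n)) := fun q U hU n =>
    theta_bijective (K n) B hB (fun V hV p m => h1 V hV p m n) U hU q
  haveI := isIso_toLimH ha B hB q (hθ q) fun U hU =>
    surjective_limOne_dgen t U q (hθ (q - 1) U hU) (h2 U hU (q - 1))
  exact ⟨asIso (toLimH ha q)⟩

/-- The Opens of a basis cover. -/
theorem cover_of_isBasis {X : TopCat.{u}} {B : Set (TopologicalSpace.Opens X)}
    (hB : TopologicalSpace.Opens.IsBasis B) (V : TopologicalSpace.Opens X) :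
    ∃ (ι : Type u) (Y : ι → TopologicalSpace.Opens X) (g : ∀ i, Y i ⟶ V),
      Sieve.ofArrows Y g ∈ Opens.grothendieckTopology X V ∧ ∀ i, Y i ∈ B := by
  refine ⟨{W : TopologicalSpace.Opens X // W ∈ B ∧ W ≤ V}, fun W => W.1, fun W => homOfLE W.2.2, ?_,
    fun W => W.2.1⟩
  intro x hx
  obtain ⟨W, hW, hxW, hWV⟩ := TopologicalSpace.Opens.isBasis_iff_nbhd.mp hB hx
  exact ⟨W, homOfLE hWV, ⟨W, 𝟙 W, homOfLE hWV,
    Presieve.ofArrows.mk (⟨W, hW, hWV⟩ : {W : TopologicalSpace.Opens X // W ∈ B ∧ W ≤ V}),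
    Subsingleton.elim _ _⟩, hxW⟩

end Groth.Agent.AbSiteDerLib
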