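import Groth.Agent.AbSiteDerLib.RlimBasis

/-!
# The limit of a system acyclic on a basis is its derived limit
-/

set_option linter.unusedSectionVars false
set_option linter.style.haveILetI false
set_option backward.isDefEq.respectTransparency false

universe w u

open CategoryTheory Limits Pretriangulated DerivedCategory DerivedCategory.TStructure
open Opposite (op unop)

namespace Groth.Agent.AbSiteDerLib

variable {C : Type u} [SmallCategory C] {J : GrothendieckTopology C}
  [HasDerivedCategory.{w} (Sheaf J AddCommGrpCat.{u})]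

theorem isZero_Hd_single (M : Sheaf J AddCommGrpCat.{u}) (a q : ℤ) (h : q ≠ a) :
    IsZero ((Hd J q).obj ((DerivedCategory.singleFunctor (Sheaf J AddCommGrpCat.{u}) a).obj M)) :=
  (HomologicalComplex.isZero_single_obj_homology (ComplexShape.up ℤ) a M q h).of_iso
    ((homologyFunctorFactors (Sheaf J AddCommGrpCat.{u}) q).app _)

theorem subsingleton_sec_of_isZero {M : Sheaf J AddCommGrpCat.{u}} (hM : IsZero M) (U : C) :
    Subsingleton (M.obj.obj (op U)) :=
  AddCommGrpCat.subsingleton_of_isZero ((secFun J U).map_isZero hM)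

/-- Vanishing of maps out of generators gives vanishing of cohomology. -/
theorem subsingleton_HU_of_dgen (M : Sheaf J AddCommGrpCat.{u}) (U : C) (k : ℕ)
    (h : ∀ x : dgen J U (k : ℤ) ⟶ (DerivedCategory.singleFunctor (Sheaf J AddCommGrpCat.{u}) 0).obj M, x = 0) :
    Subsingleton (CohSite.HU M k U) := by
  haveI : HasExt.{u} (Sheaf J AddCommGrpCat.{u}) := hasExt_of_enoughInjectives.{u} _
  let G := fun n => DerivedCategory.singleFunctor (Sheaf J AddCommGrpCat.{u}) n
  haveI : Subsingleton ((G 0).obj (freeAb J U) ⟶ ((G 0).obj M)⟦(k : ℤ)⟧) := by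
    refine subsingleton_of_forall_eq 0 fun y => ?_
    apply (shiftFunctor (DerivedCategory (Sheaf J AddCommGrpCat.{u})) (-(k : ℤ))).map_injective
    rw [Functor.map_zero]
    let e := ((DerivedCategory.singleFunctors (Sheaf J AddCommGrpCat.{u})).shiftIso (-(k : ℤ)) k 0
      (by omega)).app (freeAb J U)
    rw [← cancel_epi e.inv, ← cancel_mono ((shiftEquiv _ (k : ℤ)).unitIso.inv.app ((G 0).obj M)),
      comp_zero, zero_comp]
    exact h _
  change Subsingleton (Abelian.Ext.{u} (freeAb J U) M k)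
  exact Abelian.Ext.homEquiv.subsingleton

/-- An iso of inverse systems. -/
noncomputable def opSeqIso {A : Type*} [Category A] {F G : ℕ → A} {τ : ∀ n, F (n + 1) ⟶ F n}
    {σ : ∀ n, G (n + 1) ⟶ G n} (e : ∀ n, F n ≅ G n) (h : ∀ n, τ n ≫ (e n).hom = (e (n + 1)).hom ≫ σ n) :
    CohCx.opSequence F τ ≅ CohCx.opSequence G σ :=
  haveI : ∀ n : ℕᵒᵖ, IsIso ((NatTrans.ofOpSequence (F := CohCx.opSequence F τ) (G := CohCx.opSequence G σ)
      (fun n => (e n).hom) (fun n => by
        rw [Functor.ofOpSequence_map_homOfLE_succ, Functor.ofOpSequence_map_homOfLE_succ]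
        exact h n)).app n) := fun n => (e n.unop).isIso_hom
  haveI := NatIso.isIso_of_isIso_app (NatTrans.ofOpSequence (F := CohCx.opSequence F τ)
    (G := CohCx.opSequence G σ) (fun n => (e n).hom) (fun n => by
        rw [Functor.ofOpSequence_map_homOfLE_succ, Functor.ofOpSequence_map_homOfLE_succ]
        exact h n))
  asIso (NatTrans.ofOpSequence (F := CohCx.opSequence F τ)
    (G := CohCx.opSequence G σ) (fun n => (e n).hom) (fun n => by
        rw [Functor.ofOpSequence_map_homOfLE_succ, Functor.ofOpSequence_map_homOfLE_succ]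
        exact h n))

/-- The limit of a system of sheaves acyclic on a basis is its derived limit. -/
theorem isRlim_single_limit (F : ℕ → Sheaf J AddCommGrpCat.{u}) (τ : ∀ n, F (n + 1) ⟶ F n)
    [HasProduct fun n => (DerivedCategory.singleFunctor (Sheaf J AddCommGrpCat.{u}) 0).obj (F n)]
    (B : Set C)
    (hB : ∀ U : C, ∃ (ι : Type u) (Y : ι → C) (g : ∀ i, Y i ⟶ U), Sieve.ofArrows Y g ∈ J U ∧ ∀ i, Y i ∈ B)
    (h1 : ∀ U ∈ B, ∀ (p n : ℕ), Subsingleton (CohSite.HU (F n) (p + 1) U))
    (h2 : ∀ U ∈ B, CohCx.LimOneIsZero (fun n => (F n).obj.obj (op U))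
      (fun n => ((τ n).hom.app (op U)).hom)) :
    DCoh.IsRlim (fun n => (DerivedCategory.singleFunctor (Sheaf J AddCommGrpCat.{u}) 0).obj (F n))
      (fun n => (DerivedCategory.singleFunctor (Sheaf J AddCommGrpCat.{u}) 0).map (τ n))
      ((DerivedCategory.singleFunctor (Sheaf J AddCommGrpCat.{u}) 0).obj (limit (CohCx.opSequence F τ))) ∧
    ∀ U ∈ B, ∀ p : ℕ, Subsingleton (CohSite.HU (limit (CohCx.opSequence F τ)) (p + 1) U) := by
  set K := fun n => (DerivedCategory.singleFunctor (Sheaf J AddCommGrpCat.{u}) 0).obj (F n) with hK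
  set t := fun n => (DerivedCategory.singleFunctor (Sheaf J AddCommGrpCat.{u}) 0).map (τ n) with ht
  have hθ : ∀ U ∈ B, ∀ (q : ℤ) (n : ℕ), Function.Bijective (theta U q (K n)) := fun U hU q n =>
    theta_bijective (K n) B hB (fun V hV p m => by
      by_cases hm : m = 0
      · subst hm
        haveI := isIso_unitH (F n) 0
        exact subsingleton_HU_of_iso (asIso (unitH (F n) 0)).symm _ _ (h1 V hV p n)
      · exact subsingleton_HU_of_isZero (isZero_Hd_single _ _ _ hm) _ _) U hU q
  have h2' : ∀ U ∈ B, ∀ q : ℤ, CohCx.LimOneIsZero (fun n => ((Hd J q).obj (K n)).obj.obj (op U))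
      (fun n => (((Hd J q).map (t n)).hom.app (op U)).hom) := by
    intro U hU q
    by_cases hq : q = 0
    · subst hq
      haveI := fun n => isIso_unitH (F n) 0
      refine surjective_limOne_of_equiv (B := fun n => (↑((F n).obj.obj (op U)) : Type u)) _
        (fun n b => ((τ n).hom.app (op U)).hom b)
        (fun n => ((inv (unitH (F n) 0)).hom.app (op U)).hom)
        (fun n => ((secFun J U).mapIso (asIso (unitH (F n) 0)).symm).addCommGroupIsoToAddEquiv.bijective)
        (fun n x => ?_) (h2 U hU)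
      have hnat : (Hd J 0).map (t n) ≫ inv (unitH (F n) 0) = inv (unitH (F (n + 1)) 0) ≫ τ n := by
        rw [IsIso.comp_inv_eq, Category.assoc, IsIso.eq_inv_comp]
        exact unitH_natural (τ n) 0
      exact ConcreteCategory.congr_hom (congrArg (fun f => (secFun J U).map f) hnat) x
    · intro w
      haveI := fun n => subsingleton_sec_of_isZero (isZero_Hd_single (F n) 0 q hq) U
      exact ⟨0, funext fun n => Subsingleton.elim (α := ((Hd J q).obj (K n)).obj.obj (op U)) _ _⟩
  obtain ⟨L, a0, c, hT⟩ := distinguished_cocone_triangle₁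
    (Pi.lift fun n => Pi.π K n - Pi.π K (n + 1) ≫ t n)
  obtain ⟨a, ha⟩ := exists_isRlimVia (t := t) ⟨a0, c, hT⟩
  have hiso : ∀ q : ℤ, IsIso (toLimH ha q) := fun q =>
    isIso_toLimH ha B hB q (fun U hU n => hθ U hU q n) fun U hU =>
      surjective_limOne_dgen t U q (hθ U hU (q - 1)) (h2' U hU (q - 1))
  have hz : ∀ q : ℤ, q ≠ 0 → IsZero ((Hd J q).obj L) := fun q hq => by
    haveI := hiso q
    refine IsZero.of_iso ?_ (asIso (toLimH ha q))
    rw [IsZero.iff_id_eq_zero]
    exact limit.hom_ext fun n => (isZero_Hd_single (F n.unop) 0 q hq).eq_of_tgt _ _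
  haveI : L.IsGE 0 := by rw [isGE_iff]; exact fun i hi => hz i (by omega)
  haveI : L.IsLE 0 := by rw [isLE_iff]; exact fun i hi => hz i (by omega)
  obtain ⟨Y, ⟨eY⟩⟩ := exists_iso_singleFunctor_obj_of_isGE_of_isLE L 0
  haveI := hiso 0
  haveI := isIso_unitH Y 0
  haveI := fun n => isIso_unitH (F n) 0
  let eLim : Y ≅ limit (CohCx.opSequence F τ) :=
    asIso (unitH Y 0) ≪≫ ((Hd J 0).mapIso eY).symm ≪≫ asIso (toLimH ha 0) ≪≫
      lim.mapIso (opSeqIso (fun n => (asIso (unitH (F n) 0)).symm) fun n => by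
        simp only [Iso.symm_hom, asIso_inv]
        rw [IsIso.comp_inv_eq, Category.assoc, IsIso.eq_inv_comp]
        exact unitH_natural (τ n) 0)
  let e : L ≅ (DerivedCategory.singleFunctor (Sheaf J AddCommGrpCat.{u}) 0).obj
      (limit (CohCx.opSequence F τ)) := eY ≪≫ (DerivedCategory.singleFunctor _ 0).mapIso eLim
  refine ⟨⟨e.inv ≫ a0, c ≫ e.hom⟦(1 : ℤ)⟧', isomorphic_distinguished _ hT _ ?_⟩, fun U hU p => ?_⟩
  · refine Triangle.isoMk _ _ e.symm (Iso.refl _) (Iso.refl _) ?_ ?_ ?_
    · simp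
    · exact (Category.comp_id _).trans (Category.id_comp _).symm
    · simp [← Functor.map_comp]
  · refine subsingleton_HU_of_dgen _ U (p + 1) fun x => ?_
    rw [← cancel_mono e.inv, zero_comp]
    exact eq_zero_of_rlim ha (surjective_limOne_dgen t U _ (hθ U hU _) (h2' U hU _)) _ fun n =>
      dgen_hom_single_eq_zero (F n) U _ 0 (p + 1) (by simp) (h1 U hU p n) _

end Groth.Agent.AbSiteDerLib
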