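import Groth.Agent.AbSiteDerLib.Theta

/-!
# Bijectivity of `theta` over objects without higher cohomology
-/

set_option linter.unusedSectionVars false
set_option linter.style.haveILetI false
set_option backward.isDefEq.respectTransparency false

universe w u

open CategoryTheory Limits Pretriangulated DerivedCategory DerivedCategory.TStructure HomologicalComplex
open Opposite (op unop)

namespace Groth.Agent.AbSiteDerLib

variable {C : Type u} [SmallCategory C] {J : GrothendieckTopology C}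
  [HasDerivedCategory.{w} (Sheaf J AddCommGrpCat.{u})]

theorem theta_bijective_single (M : Sheaf J AddCommGrpCat.{u}) (U : C) (j : ℤ) :
    Function.Bijective (theta U j ((singleFunctor (Sheaf J AddCommGrpCat.{u}) j).obj M)) := by
  haveI := isIso_unitH M j
  have key : ∀ f : freeAb J U ⟶ M, theta U j _ ((singleFunctor (Sheaf J AddCommGrpCat.{u}) j).map f) =
      fsEquiv _ U (f ≫ unitH M j) := fun f => congrArg (fsEquiv _ U) (unitH_natural f j)
  refine ⟨fun x y h => ?_, fun s => ?_⟩
  · obtain ⟨f, rfl⟩ := (singleFunctor (Sheaf J AddCommGrpCat.{u}) j).map_surjective x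
    obtain ⟨g, rfl⟩ := (singleFunctor (Sheaf J AddCommGrpCat.{u}) j).map_surjective y
    rw [key, key] at h
    rw [(cancel_mono (unitH M j)).mp ((fsEquiv _ U).injective h)]
  · refine ⟨(singleFunctor (Sheaf J AddCommGrpCat.{u}) j).map ((fsEquiv _ U).symm s ≫ inv (unitH M j)), ?_⟩
    rw [key, Category.assoc, IsIso.inv_hom_id, Category.comp_id, Equiv.apply_symm_apply]

theorem theta_bijective_iff {L L' : DerivedCategory (Sheaf J AddCommGrpCat.{u})} (a : L ⟶ L')
    (U : C) (j : ℤ) (g : GenBij a j U) [IsIso ((Hd J j).map a)] :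
    Function.Bijective (theta U j L) ↔ Function.Bijective (theta U j L') := by
  have hb : Function.Bijective (((Hd J j).map a).hom.app (op U)) :=
    ConcreteCategory.bijective_of_isIso (((sheafToPresheaf J AddCommGrpCat.{u}).map ((Hd J j).map a)).app (op U))
  have hc : theta U j L' ∘ (fun x => x ≫ a) = ((Hd J j).map a).hom.app (op U) ∘ theta U j L :=
    funext fun x => theta_comp x a
  rw [← Function.Bijective.of_comp_iff (theta U j L') g, hc]
  exact (Function.Bijective.of_comp_iff' hb _).symm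

/-- For a bounded below object without higher cohomology over `Y`, `theta` is bijective. -/
theorem theta_bijective_of_isGE (Y : C) (j a : ℤ) (X : DerivedCategory (Sheaf J AddCommGrpCat.{u}))
    [X.IsGE a] (h : ∀ (m : ℤ) (k : ℕ), 0 < k → Subsingleton (CohSite.HU ((Hd J m).obj X) k Y)) :
    Function.Bijective (theta Y j X) := by
  let T := (t.triangleLTGE j).obj X
  have hT : T.rotate ∈ distTriang _ := rot_of_distTriang _ (t.triangleLTGE_distinguished j X)
  let X₁ := (t.truncGE j).obj X
  let π : X ⟶ X₁ := (t.truncGEπ j).app X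
  let Z := ((t.truncLT j).obj X)⟦(1 : ℤ)⟧
  haveI : X₁.IsGE j := inferInstance
  have exZ := fun m => HomologySequence.exact₃ T.rotate hT m (m + 1) rfl
  have hZ0 : ∀ m, j - 1 ≤ m → IsZero ((Hd J m).obj Z) := fun m hm => by
    haveI : ((t.truncLT j).obj X).IsLE (j - 1) := inferInstance
    haveI : Z.IsLE (j - 2) := t.isLE_shift _ (j - 1) 1 (j - 2) (by omega)
    exact isZero_of_isLE Z (j - 2) m (by omega)
  have hZ : ∀ (m : ℤ) (k : ℕ), 0 < k → Subsingleton (CohSite.HU ((Hd J m).obj Z) k Y) := fun m k hk => by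
    by_cases hm : j - 1 ≤ m
    · exact subsingleton_HU_of_isZero (hZ0 m hm) k Y
    · have h1 : IsZero ((Hd J m).obj X₁) := isZero_of_isGE X₁ j m (by omega)
      haveI : Mono (HomologySequence.δ T.rotate m (m + 1) rfl) := (exZ m).mono_g (h1.eq_of_src _ _)
      haveI : Epi (HomologySequence.δ T.rotate m (m + 1) rfl) :=
        (HomologySequence.exact₁ T.rotate hT m (m + 1) rfl).epi_f
          ((isZero_of_isGE X₁ j (m + 1) (by omega)).eq_of_tgt _ _)
      haveI : IsIso (HomologySequence.δ T.rotate m (m + 1) rfl) := isIso_of_mono_of_epi _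
      exact subsingleton_HU_of_iso (asIso (HomologySequence.δ T.rotate m (m + 1) rfl)) k Y (h (m + 1) k hk)
  haveI : Z.IsGE (a - 1 - max (a - j) 0) := by
    rw [isGE_iff]
    intro m hm
    exact (exZ m).isZero_of_both_zeros ((isZero_of_isGE X₁ j m (by omega)).eq_of_src _ _)
      ((isZero_of_isGE X a (m + 1) (by omega)).eq_of_tgt _ _)
  have vz : ∀ j', j - 1 ≤ j' → j' ≤ j → ∀ x : dgen J Y j' ⟶ Z, x = 0 := fun j' h0 h1 =>
    dgen_hom_eq_zero Y j' (a - 1 - max (a - j) 0) Z fun m k hk => by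
      by_cases hm : j - 1 ≤ m
      · exact subsingleton_HU_of_isZero (hZ0 m hm) k Y
      · exact hZ m k (by omega)
  have g1 : GenBij π j Y :=
    (genBij_of_triangle T.rotate hT Y j (vz j (by omega) le_rfl) (vz (j - 1) le_rfl (by omega))).1
  haveI : IsIso ((Hd J j).map π) := ModCohLib.isIso_homology_truncGEπ X j j le_rfl
  rw [theta_bijective_iff π Y j g1]
  have hT₁ := t.triangleLEGT_distinguished j X₁
  haveI hG : ((t.triangleLEGT j).obj X₁).obj₃.IsGE (j + 1) :=
    inferInstanceAs (((t.truncGT j).obj X₁).IsGE (j + 1))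
  haveI hG' : ((t.triangleLEGT j).obj X₁).obj₃.IsGE (j - 1 + 1) :=
    t.isGE_of_ge _ (j - 1 + 1) (j + 1) (by omega)
  have g2 : GenBij ((t.truncLEι j).app X₁) j Y :=
    (genBij_of_triangle _ hT₁ Y j (fun x => dgen_hom_eq_zero_of_isGE Y j _ x)
      (fun x => dgen_hom_eq_zero_of_isGE Y (j - 1) _ x)).1
  haveI : IsIso ((Hd J j).map ((t.truncLEι j).app X₁)) :=
    DerLib.Devissage.isIso_homology_truncLEι X₁ j j le_rfl
  refine (theta_bijective_iff _ Y j g2).mp ?_
  haveI : ((t.truncLE j).obj X₁).IsGE j := by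
    rw [isGE_iff]
    intro i hi
    haveI := DerLib.Devissage.isIso_homology_truncLEι X₁ j i (by omega)
    exact (isZero_of_isGE X₁ j i hi).of_iso
      (asIso ((homologyFunctor _ i).map ((t.truncLEι j).app X₁)))
  obtain ⟨e⟩ := DerLib.Devissage.nonempty_iso_single ((t.truncLE j).obj X₁) j
  refine (theta_bijective_iff e.hom Y j (Iso.homToEquiv e).bijective).mpr ?_
  exact theta_bijective_single _ Y j

/-- `theta` is bijective over a basis object without higher cohomology. -/
theorem theta_bijective (K : DerivedCategory (Sheaf J AddCommGrpCat.{u})) (B : Set C)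
    (hB : ∀ U : C, ∃ (ι : Type u) (Y : ι → C) (g : ∀ i, Y i ⟶ U), Sieve.ofArrows Y g ∈ J U ∧ ∀ i, Y i ∈ B)
    (h : ∀ U ∈ B, ∀ (p : ℕ) (q : ℤ), Subsingleton (CohSite.HU ((Hd J q).obj K) (p + 1) U))
    (U : C) (hU : U ∈ B) (q : ℤ) : Function.Bijective (theta U q K) := by
  have hv : ∀ Y ∈ B, ∀ (j : ℤ) (n : ℕ), (-j).toNat ≤ n → ∀ k : ℕ, (k : ℤ) = j + n + 1 ∨ (k : ℤ) = j + n + 2 →
      Subsingleton (CohSite.HU ((Hd J (-(n : ℤ) - 1)).obj K) k Y) := fun Y hY j n hn k hk => by
    obtain ⟨p, rfl⟩ : ∃ p, k = p + 1 := ⟨k - 1, by omega⟩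
    exact h Y hY p _
  have tv : TowerVanish K B := fun j V _ => ⟨(-j).toNat,
    ModCohLib.cofinalCover_of_forall J B hB (fun Y hY => hv Y hY j) V⟩
  let n := (-q).toNat
  have g := genBij_toTruncTower K B hB tv U q n (hv U hU q) n le_rfl
  haveI : (CohCx.truncTower K n).IsGE (-(n : ℤ)) := inferInstanceAs (((t.truncGE (-(n : ℤ))).obj K).IsGE _)
  haveI : IsIso ((Hd J q).map (CohCx.toTruncTower K n)) :=
    ModCohLib.isIso_homology_truncGEπ K (-(n : ℤ)) q (by omega)
  rw [theta_bijective_iff (CohCx.toTruncTower K n) U q g]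
  refine theta_bijective_of_isGE U q (-(n : ℤ)) (CohCx.truncTower K n) fun m k hk => ?_
  by_cases hm : -(n : ℤ) ≤ m
  · obtain ⟨p, rfl⟩ : ∃ p, k = p + 1 := ⟨k - 1, by omega⟩
    haveI : IsIso ((Hd J m).map (CohCx.toTruncTower K n)) :=
      ModCohLib.isIso_homology_truncGEπ K (-(n : ℤ)) m hm
    exact subsingleton_HU_of_iso (asIso ((Hd J m).map (CohCx.toTruncTower K n))).symm (p + 1) U
      (h U hU p m)
  · exact subsingleton_HU_of_isZero (ModCohLib.isZero_homology_truncTower K n m (by omega)) k U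

end Groth.Agent.AbSiteDerLib
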