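import Groth.Agent.AbSiteDerLib.HduMap
import Groth.Agent.AbSiteDerLib.ThetaBij
import Mathlib.CategoryTheory.Sites.LocallyInjective
import Mathlib.CategoryTheory.Sites.LocallyBijective
import Mathlib.CategoryTheory.Sites.LocallySurjective

/-!
# The cohomology sheaf as a sheafified cohomology presheaf; detection at one index
-/

set_option linter.unusedSectionVars false
set_option linter.style.haveILetI false
set_option backward.isDefEq.respectTransparency false
set_option backward.isDefEq.respectTransparency.types false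

universe u

open CategoryTheory Limits Pretriangulated DerivedCategory
open Opposite (op unop)

namespace Groth.Agent.AbSiteDerLib

variable {C : Type u} [SmallCategory C] {J : GrothendieckTopology C}
  [HasDerivedCategory.{u} (Sheaf J AddCommGrpCat.{u})]

theorem hduMap_dgenMap {U V : C} (f : V ⟶ U) (j : ℤ) (K : DerivedCategory (Sheaf J AddCommGrpCat.{u}))
    (x : dgen J U j ⟶ K) :
    hduMap V j K (dgenMap f j ≫ x) =
      (DerivedCategory.singleFunctor (Sheaf J AddCommGrpCat.{u}) 0).map (CohCx.freeSheafMap J f) ≫ hduMap U j K x := by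
  let e := ((singleFunctors (Sheaf J AddCommGrpCat.{u})).shiftIso j 0 j (by omega))
  change e.inv.app _ ≫ (shiftFunctor _ j).map (dgenMap f j ≫ x) = _ ≫ e.inv.app _ ≫ (shiftFunctor _ j).map x
  rw [Functor.map_comp, ← Category.assoc, ← Category.assoc]
  refine congrArg (· ≫ (shiftFunctor _ j).map x) ?_
  exact (e.inv.naturality (CohCx.freeSheafMap J f)).symm

/-- The comparison of cohomology classes with sections of the cohomology sheaf. -/
noncomputable def sectionOfHdu (U : C) (j : ℤ) (K : DerivedCategory (Sheaf J AddCommGrpCat.{u})) :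
    CohCx.HDU K j U →+ ((Hd J j).obj K).obj.obj (op U) :=
  (theta U j K).comp (AddEquiv.ofBijective (hduMap U j K) (hduMap_bijective U j K)).symm.toAddMonoidHom

theorem sectionOfHdu_hduMap (U : C) (j : ℤ) (K : DerivedCategory (Sheaf J AddCommGrpCat.{u}))
    (x : dgen J U j ⟶ K) : sectionOfHdu U j K (hduMap U j K x) = theta U j K x :=
  congrArg (theta U j K) ((AddEquiv.ofBijective (hduMap U j K) (hduMap_bijective U j K)).symm_apply_apply x)

/-- The natural transformation of the comparisons. -/
noncomputable def hduToHd (j : ℤ) (K : DerivedCategory (Sheaf J AddCommGrpCat.{u})) :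
    CohCx.HDUPresheaf K j ⟶ ((Hd J j).obj K).obj where
  app U := AddCommGrpCat.ofHom (sectionOfHdu U.unop j K)
  naturality U V f := by
    ext y
    obtain ⟨x, rfl⟩ := (hduMap_bijective U.unop j K).2 y
    change sectionOfHdu V.unop j K ((DerivedCategory.singleFunctor _ 0).map (CohCx.freeSheafMap J f.unop) ≫
      hduMap U.unop j K x) = ((Hd J j).obj K).obj.map f (sectionOfHdu U.unop j K (hduMap U.unop j K x))
    rw [← hduMap_dgenMap, sectionOfHdu_hduMap, sectionOfHdu_hduMap]
    exact theta_res f.unop x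

/-- The cohomology sheaf is the sheafification of the cohomology presheaf. -/
theorem nonempty_sheafify_iso (j : ℤ) (K : DerivedCategory (Sheaf J AddCommGrpCat.{u})) :
    Nonempty ((presheafToSheaf J AddCommGrpCat.{u}).obj (CohCx.HDUPresheaf K j) ≅ (Hd J j).obj K) := by
  have h1 : Presheaf.IsLocallyInjective J (hduToHd j K) := by
    constructor
    intro U y y' h
    obtain ⟨x, hx⟩ := (hduMap_bijective U.unop j K).2 (y - y')
    have h0 : theta U.unop j K x = 0 := by
      rw [← sectionOfHdu_hduMap, hx, map_sub]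
      exact sub_eq_zero.mpr h
    obtain ⟨S, hS, hS'⟩ := theta_locallyInjective K j U.unop x h0
    refine J.superset_covering ?_ hS
    intro V f hf
    show (CohCx.HDUPresheaf K j).map f.op y = (CohCx.HDUPresheaf K j).map f.op y'
    rw [← sub_eq_zero, ← map_sub, ← hx]
    refine (hduMap_dgenMap f j K x).symm.trans ?_
    rw [hS' V f hf, map_zero]
  have h2 : Presheaf.IsLocallySurjective J (hduToHd j K) := by
    constructor
    intro U s
    obtain ⟨S, hS, hS'⟩ := theta_locallySurjective K j U s
    refine J.superset_covering ?_ hS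
    intro V f hf
    obtain ⟨x, hx⟩ := hS' V f hf
    exact ⟨hduMap V j K x, (sectionOfHdu_hduMap V j K x).trans hx⟩
  have hW : J.W (hduToHd j K) :=
    (J.W_iff_isLocallyBijective (A := AddCommGrpCat.{u}) (hduToHd j K)).mpr ⟨h1, h2⟩
  haveI : IsIso ((presheafToSheaf J AddCommGrpCat.{u}).map (hduToHd j K)) :=
    ((J.W_iff (hduToHd j K)).mp hW)
  exact ⟨asIso ((presheafToSheaf J AddCommGrpCat.{u}).map (hduToHd j K)) ≪≫
    asIso ((sheafificationAdjunction J AddCommGrpCat.{u}).counit.app ((Hd J j).obj K))⟩

/-- Sections of the cohomology sheaf of a derived limit are seen at one index. -/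
theorem injective_hd_rlim {K : ℕ → DerivedCategory (Sheaf J AddCommGrpCat.{u})}
    {t : ∀ n, K (n + 1) ⟶ K n} [HasProduct K] {L : DerivedCategory (Sheaf J AddCommGrpCat.{u})}
    {a : ∀ n, L ⟶ K n} (hL : CohCx.IsRlimVia K t L a) (V : C) (m : ℤ) (nV : ℕ)
    (h : ∀ T ∈ J V, ∃ (ι : Type u) (Y : ι → C) (f : ∀ i, Y i ⟶ V), (∀ i, T.arrows (f i)) ∧
      Sieve.ofArrows Y f ∈ J V ∧ ∀ i,
        CohCx.LimOneIsZero (fun n => CohCx.HDU (K n) (m - 1) (Y i))
          (fun n => Preadditive.rightComp _ ((shiftFunctor _ (m - 1)).map (t n))) ∧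
        ∀ k : ℕ, Function.Injective
          (Preadditive.rightComp _ ((shiftFunctor _ m).map (CohCx.transition K t nV k)) :
            CohCx.HDU (K (nV + k)) m (Y i) → CohCx.HDU (K nV) m (Y i))) :
    Function.Injective (((Hd J m).map (a nV)).hom.app (op V)) := by
  refine (injective_iff_map_eq_zero _).mpr fun s hs => ?_
  let T : Sieve V :=
    { arrows := fun Y f => ∃ x : dgen J Y m ⟶ L,
        theta Y m L x = ((Hd J m).obj L).obj.map f.op s ∧ x ≫ a nV = 0
      downward_closed := fun {Y Z f} ⟨x, hx, hx'⟩ g => ⟨dgenMap g m ≫ x, by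
        rw [theta_res, hx, op_comp, Functor.map_comp]
        rfl, by rw [Category.assoc, hx', comp_zero]⟩ }
  have hT : T ∈ J V := by
    obtain ⟨S, hS, hS'⟩ := theta_locallySurjective L m V s
    refine J.transitive hS _ fun Y f hf => ?_
    obtain ⟨x, hx⟩ := hS' Y f hf
    obtain ⟨R, hR, hR'⟩ := theta_locallyInjective (K nV) m Y (x ≫ a nV) (by
      rw [theta_comp, hx, NatTrans.naturality_apply]
      exact (congrArg _ hs).trans (map_zero _))
    refine J.superset_covering ?_ hR
    intro Z g hg
    exact ⟨dgenMap g m ≫ x, by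
      rw [theta_res, hx, op_comp, Functor.map_comp]
      rfl, (Category.assoc _ _ _).trans (hR' Z g hg)⟩
  obtain ⟨ι, YY, f, hf, hcov, hY⟩ := h T hT
  refine Presheaf.IsSheaf.isSeparated ((Hd J m).obj L).property V _ hcov s 0 fun Z g hg => ?_
  obtain ⟨W, b, _, ⟨i⟩, rfl⟩ := hg
  obtain ⟨x, hx, hx'⟩ := hf i
  obtain ⟨hlim, hinj⟩ := hY i
  have hs0 : ((Hd J m).obj L).obj.map (f i).op s = 0 := by
    rw [← hx, eq_zero_of_rlim_transition hL (YY i) m nV hlim hinj x hx', map_zero]
  rw [op_comp, Functor.map_comp]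
  refine (congrArg (((Hd J m).obj L).obj.map b.op) hs0).trans ?_
  rw [map_zero, map_zero]

end Groth.Agent.AbSiteDerLib
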