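import Groth.Agent.AbSiteDerLib.BasisSections

/-!
# The natural map from maps out of free sheaves to sections of cohomology sheaves
-/

set_option linter.unusedSectionVars false
set_option linter.style.haveILetI false
set_option backward.isDefEq.respectTransparency false

universe w u

open CategoryTheory Limits Pretriangulated DerivedCategory DerivedCategory.TStructure HomologicalComplex
open Opposite (op unop)

namespace Groth.Agent.AbSiteDerLib

variable {C : Type u} [SmallCategory C] {J : GrothendieckTopology C}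
  [HasDerivedCategory.{w} (Sheaf J AddCommGrpCat.{u})]

variable (J) in
/-- Cohomology sheaves. -/
noncomputable abbrev Hd (j : ℤ) : DerivedCategory (Sheaf J AddCommGrpCat.{u}) ⥤ Sheaf J AddCommGrpCat.{u} :=
  DerivedCategory.homologyFunctor (Sheaf J AddCommGrpCat.{u}) j

/-- The tautological map of a sheaf to the cohomology of its single complex. -/
noncomputable def unitH (F : Sheaf J AddCommGrpCat.{u}) (j : ℤ) :
    F ⟶ (Hd J j).obj ((singleFunctor (Sheaf J AddCommGrpCat.{u}) j).obj F) :=
  (singleObjHomologySelfIso (ComplexShape.up ℤ) j F).inv ≫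
    (homologyFunctorFactors (Sheaf J AddCommGrpCat.{u}) j).inv.app
      ((single (Sheaf J AddCommGrpCat.{u}) (ComplexShape.up ℤ) j).obj F)

theorem isIso_unitH (F : Sheaf J AddCommGrpCat.{u}) (j : ℤ) : IsIso (unitH F j) := by
  rw [unitH]
  infer_instance

theorem unitH_natural {F G : Sheaf J AddCommGrpCat.{u}} (f : F ⟶ G) (j : ℤ) :
    unitH F j ≫ (Hd J j).map ((singleFunctor (Sheaf J AddCommGrpCat.{u}) j).map f) = f ≫ unitH G j := by
  rw [unitH, unitH, Category.assoc]
  refine (congrArg (_ ≫ ·) ((homologyFunctorFactors (Sheaf J AddCommGrpCat.{u}) j).inv.naturality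
    ((single (Sheaf J AddCommGrpCat.{u}) (ComplexShape.up ℤ) j).map f)).symm).trans ?_
  rw [← Category.assoc, ← Category.assoc]
  exact congrArg (· ≫ _) (singleObjHomologySelfIso_inv_naturality (ComplexShape.up ℤ) j f)

/-- The map on free sheaves induced by a morphism, in degree `j`. -/
noncomputable def dgenMap {U V : C} (f : V ⟶ U) (j : ℤ) : dgen J V j ⟶ dgen J U j :=
  (singleFunctor (Sheaf J AddCommGrpCat.{u}) j).map (CohCx.freeSheafMap J f)

theorem fsEquiv_precomp {U V : C} (f : V ⟶ U) {F : Sheaf J AddCommGrpCat.{u}} (a : freeAb J U ⟶ F) :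
    fsEquiv F V (CohCx.freeSheafMap J f ≫ a) = F.obj.map f.op (fsEquiv F U a) := by
  change yonedaEquiv (CohLib.freePshEquiv _ _ ((sheafificationAdjunction J _).homEquiv _ _ (_ ≫ a))) = _
  rw [Adjunction.homEquiv_naturality_left]
  unfold CohLib.freePshEquiv
  erw [Adjunction.homEquiv_naturality_left]
  exact (yonedaEquiv_naturality _ f).symm

theorem fsEquiv_add {F : Sheaf J AddCommGrpCat.{u}} {U : C} (a b : freeAb J U ⟶ F) :
    fsEquiv F U (a + b) = fsEquiv F U a + fsEquiv F U b := by
  rw [← Category.id_comp (a + b), ← Category.id_comp a, ← Category.id_comp b,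
    secEquiv_comp', secEquiv_comp', secEquiv_comp', Category.id_comp, Category.id_comp]
  rfl

/-- Maps out of a free sheaf give sections of the cohomology sheaf. -/
noncomputable def theta (U : C) (j : ℤ) (K : DerivedCategory (Sheaf J AddCommGrpCat.{u})) :
    (dgen J U j ⟶ K) →+ ((Hd J j).obj K).obj.obj (op U) :=
  AddMonoidHom.mk' (fun x => fsEquiv _ U (unitH (freeAb J U) j ≫ (Hd J j).map x)) fun x y => by
    rw [Functor.map_add, Preadditive.comp_add, fsEquiv_add]

theorem theta_comp {U : C} {j : ℤ} {K K' : DerivedCategory (Sheaf J AddCommGrpCat.{u})}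
    (x : dgen J U j ⟶ K) (a : K ⟶ K') :
    theta U j K' (x ≫ a) = ((Hd J j).map a).hom.app (op U) (theta U j K x) := by
  change fsEquiv _ U _ = _
  rw [Functor.map_comp, ← Category.assoc, secEquiv_comp']
  rfl

theorem theta_res {U V : C} (f : V ⟶ U) {j : ℤ} {K : DerivedCategory (Sheaf J AddCommGrpCat.{u})}
    (x : dgen J U j ⟶ K) :
    theta V j K (dgenMap f j ≫ x) = ((Hd J j).obj K).obj.map f.op (theta U j K x) := by
  change fsEquiv _ V _ = _
  rw [Functor.map_comp, ← Category.assoc, dgenMap, unitH_natural, Category.assoc, fsEquiv_precomp]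
  rfl

/-- The inverse of the comparison for `Q.obj I`. -/
noncomputable abbrev facInv (I : CochainComplex (Sheaf J AddCommGrpCat.{u}) ℤ) (j : ℤ) :
    I.homology j ⟶ (Hd J j).obj (DerivedCategory.Q.obj I) :=
  (homologyFunctorFactors (Sheaf J AddCommGrpCat.{u}) j).inv.app I

theorem unitH_Q {I : CochainComplex (Sheaf J AddCommGrpCat.{u}) ℤ} {U : C} {j : ℤ}
    (g : gen J U j ⟶ I) (a : freeAb J U ⟶ I.cycles j)
    (ha : a ≫ I.iCycles j = (singleObjXSelf (ComplexShape.up ℤ) j _).inv ≫ g.f j) :
    unitH (freeAb J U) j ≫ (Hd J j).map (DerivedCategory.Q.map g) = a ≫ I.homologyπ j ≫ facInv I j := by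
  rw [unitH, Category.assoc]
  refine (congrArg (_ ≫ ·) ((homologyFunctorFactors (Sheaf J AddCommGrpCat.{u}) j).inv.naturality g).symm).trans ?_
  rw [← Category.assoc, ← Category.assoc]
  refine congrArg (· ≫ facInv I j) ?_
  rw [← singleObjCyclesSelfIso_inv_homologyπ, Category.assoc]
  refine (congrArg (_ ≫ ·) (homologyπ_naturality g j)).trans ?_
  rw [← Category.assoc]
  refine congrArg (· ≫ I.homologyπ j) ?_
  rw [← cancel_mono (I.iCycles j), Category.assoc, cyclesMap_i, singleObjCyclesSelfIso_inv_iCycles_assoc, ha]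

/-- Every section of a cohomology sheaf is locally in the image of `theta`. -/
theorem theta_locallySurjective (K : DerivedCategory (Sheaf J AddCommGrpCat.{u})) (j : ℤ) (U : C)
    (s : ((Hd J j).obj K).obj.obj (op U)) :
    ∃ S ∈ J U, ∀ (V : C) (f : V ⟶ U), S.arrows f → ∃ x : dgen J V j ⟶ K,
      theta V j K x = ((Hd J j).obj K).obj.map f.op s := by
  let I := DerivedCategory.Q.objPreimage K
  let e : DerivedCategory.Q.obj I ≅ K := DerivedCategory.Q.objObjPreimageIso K
  let p : I.cycles j ⟶ (Hd J j).obj K := I.homologyπ j ≫ facInv I j ≫ (Hd J j).map e.hom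
  haveI : Epi p := by
    haveI : IsIso (facInv I j ≫ (Hd J j).map e.hom) := inferInstance
    exact epi_comp _ _
  have hls : Presheaf.IsLocallySurjective J p.hom :=
    (Sheaf.isLocallySurjective_iff_epi' AddCommGrpCat.{u} p).mpr inferInstance
  refine ⟨_, hls.imageSieve_mem s, fun V f hf => ?_⟩
  obtain ⟨z, hz⟩ := hf
  let a : freeAb J V ⟶ I.cycles j := (fsEquiv _ V).symm z
  let g : gen J V j ⟶ I := mkHomFromSingle (a ≫ I.iCycles j) fun k hk => by
    rw [Category.assoc, iCycles_d, comp_zero]
  have ha : a ≫ I.iCycles j = (singleObjXSelf (ComplexShape.up ℤ) j _).inv ≫ g.f j := by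
    rw [mkHomFromSingle_f, Iso.inv_hom_id_assoc]
  refine ⟨DerivedCategory.Q.map g ≫ e.hom, ?_⟩
  change fsEquiv _ V _ = _
  rw [Functor.map_comp, ← Category.assoc, unitH_Q g a ha, Category.assoc, Category.assoc,
    secEquiv_comp']
  refine (congrArg (p.hom.app (op V)) (Equiv.apply_symm_apply _ z)).trans ?_
  exact hz

/-- A map whose section of the cohomology sheaf vanishes is locally zero. -/
theorem theta_locallyInjective (K : DerivedCategory (Sheaf J AddCommGrpCat.{u})) (j : ℤ) (U : C)
    (x : dgen J U j ⟶ K) (hx : theta U j K x = 0) :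
    ∃ S ∈ J U, ∀ (V : C) (f : V ⟶ U), S.arrows f → dgenMap f j ≫ x = 0 := by
  obtain ⟨I, hI, ⟨e⟩⟩ := DerLib.KInjUse.exists_iso_Q_kInjective K
  haveI := hI
  obtain ⟨g, hg⟩ := DerLib.KInjUse.Q_map_surjective (gen J U j) I (x ≫ e.hom)
  let m := (singleObjXSelf (ComplexShape.up ℤ) j _).inv ≫ g.f j
  have hm : m ≫ I.d j (j + 1) = 0 := by
    simp only [m, Category.assoc, g.comm]
    rw [show (gen J U j).d j (j + 1) = 0 by simp, zero_comp, comp_zero]
  let a : freeAb J U ⟶ I.cycles j := I.liftCycles m (j + 1) (by simp) hm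
  have ha : a ≫ I.iCycles j = m := I.liftCycles_i _ _ _ _
  let z := fsEquiv _ U a
  have hz : (I.homologyπ j).hom.app (op U) z = 0 := by
    have h0 : theta U j _ (x ≫ e.hom) = 0 := by rw [theta_comp, hx, map_zero]
    rw [← hg] at h0
    change fsEquiv _ U (unitH (freeAb J U) j ≫ _) = 0 at h0
    rw [unitH_Q g a ha, ← Category.assoc, secEquiv_comp', secEquiv_comp'] at h0
    have : IsIso ((sheafToPresheaf J AddCommGrpCat.{u}).map (facInv I j)) := inferInstance
    exact (ConcreteCategory.bijective_of_isIso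
      (((sheafToPresheaf J AddCommGrpCat.{u}).map (facInv I j)).app (op U))).1
      (h0.trans (map_zero _).symm)
  let S : ShortComplex (Sheaf J AddCommGrpCat.{u}) :=
    ShortComplex.mk _ _ (I.toCycles_comp_homologyπ (j - 1) j)
  have hS : S.Exact := ShortComplex.exact_of_g_is_cokernel S (I.homologyIsCokernel (j - 1) j (by simp))
  haveI : Epi (Abelian.factorThruImage S.f) := inferInstance
  let lft : I.X (j - 1) ⟶ kernel S.g := kernel.lift S.g S.f S.zero
  haveI : Epi lft := S.exact_iff_epi_kernel_lift.mp hS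
  obtain ⟨zk, hzk⟩ : ∃ zk, (kernel.ι S.g).hom.app (op U) zk = z := by
    let S' : ShortComplex (Sheaf J AddCommGrpCat.{u}) := ShortComplex.mk _ _ (kernel.condition S.g)
    have h' : S'.Exact := ShortComplex.exact_of_f_is_kernel _ (kernelIsKernel S.g)
    haveI : PreservesFiniteLimits (sheafToPresheaf J AddCommGrpCat.{u} ⋙
        (evaluation Cᵒᵖ AddCommGrpCat.{u}).obj (op U)) := comp_preservesFiniteLimits _ _
    exact (ShortComplex.ab_exact_iff _).mp (h'.map_of_mono_of_preservesKernel
      (sheafToPresheaf J AddCommGrpCat.{u} ⋙ (evaluation Cᵒᵖ AddCommGrpCat.{u}).obj (op U))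
      inferInstance inferInstance) z hz
  have hls : Presheaf.IsLocallySurjective J lft.hom :=
    (Sheaf.isLocallySurjective_iff_epi' AddCommGrpCat.{u} lft).mpr inferInstance
  refine ⟨_, hls.imageSieve_mem zk, fun V f hf => ?_⟩
  obtain ⟨y, hy⟩ := hf
  let g' : gen J V j ⟶ I := (single (Sheaf J AddCommGrpCat.{u}) (ComplexShape.up ℤ) j).map (CohCx.freeSheafMap J f) ≫ g
  have h1 : (dgenMap f j ≫ x) ≫ e.hom = DerivedCategory.Q.map g' := by
    simp only [g', Functor.map_comp, hg, Category.assoc]
    rfl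
  have h2 : cls g' = 0 := by
    obtain ⟨z', hz', hi'⟩ := cls_eq g'
    rw [← hz', homologyπ_eq_zero_iff]
    refine ⟨y, ?_⟩
    rw [hi']
    have e1 : (singleObjXSelf (ComplexShape.up ℤ) j _).inv ≫ g'.f j = CohCx.freeSheafMap J f ≫ m := by
      simp [g', m, single_map_f_self]
    rw [e1, fsEquiv_precomp, ← ha, secEquiv_comp']
    have e2 := congrArg ((kernel.ι S.g).hom.app (op V)) hy
    have e3 : (kernel.ι S.g).hom.app (op V) (lft.hom.app (op V) y) = S.f.hom.app (op V) y :=
      ConcreteCategory.congr_hom (congrArg (fun φ => φ.hom.app (op V)) (kernel.lift_ι S.g S.f S.zero)) y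
    have e4 : (kernel.ι S.g).hom.app (op V) ((kernel S.g).obj.map f.op zk) =
        (I.cycles j).obj.map f.op z := by
      rw [NatTrans.naturality_apply]
      exact congrArg _ hzk
    have e5 : S.f.hom.app (op V) y = (I.cycles j).obj.map f.op z := e3.symm.trans (e2.trans e4)
    have e6 := congrArg ((I.iCycles j).hom.app (op V)) e5
    have e7 : (I.iCycles j).hom.app (op V) (S.f.hom.app (op V) y) = (I.d (j - 1) j).hom.app (op V) y :=
      ConcreteCategory.congr_hom (congrArg (fun φ => φ.hom.app (op V)) (I.toCycles_i (j - 1) j)) y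
    exact (e7.symm.trans e6).trans (NatTrans.naturality_apply (I.iCycles j).hom f.op z)
  obtain ⟨H⟩ := (cls_eq_zero_iff g').mp h2
  rw [← cancel_mono e.hom, zero_comp, h1]
  exact DerLib.KInjUse.Q_map_zero_of_quotient
    ((HomotopyCategory.eq_of_homotopy _ _ H).trans (Functor.map_zero _ _ _))

end Groth.Agent.AbSiteDerLib
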