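import Groth.Agent.AbSiteDerLib.TruncLim
import Groth.Prelude.Def_CohTop

/-!
# Derived limits of truncations on topological spaces, with pointwise bounds
-/

set_option linter.unusedSectionVars false
set_option linter.style.haveILetI false
set_option backward.isDefEq.respectTransparency false

universe w u

open CategoryTheory Limits Pretriangulated DerivedCategory DerivedCategory.TStructure HomologicalComplex
open TopologicalSpace (Opens)
open Opposite (op unop)

namespace Groth.Agent.AbSiteDerLib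

variable {X : TopCat.{u}}

/-- Pointwise factorisation through maps bijective on small neighbourhoods followed by locally
bijective maps. -/
theorem isLocallyBijective_of_pointwise {P Q : (Opens X)ᵒᵖ ⥤ AddCommGrpCat.{u}} (φ : P ⟶ Q)
    (h : ∀ x : X, ∃ (R : (Opens X)ᵒᵖ ⥤ AddCommGrpCat.{u}) (ψ : P ⟶ R) (χ : R ⟶ Q), φ = ψ ≫ χ ∧
      Presheaf.IsLocallyInjective (Opens.grothendieckTopology X) χ ∧ Presheaf.IsLocallySurjective (Opens.grothendieckTopology X) χ ∧
      ∀ V : Opens X, x ∈ V → ∃ Y : Opens X, x ∈ Y ∧ Y ≤ V ∧ Function.Bijective (ψ.app (op Y))) :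
    Presheaf.IsLocallyInjective (Opens.grothendieckTopology X) φ ∧ Presheaf.IsLocallySurjective (Opens.grothendieckTopology X) φ := by
  constructor
  · constructor
    intro U s s' hss' x hx
    obtain ⟨R, ψ, χ, rfl, hi, -, hc⟩ := h x
    haveI := hi
    obtain ⟨W, i, hW, hxW⟩ := Presheaf.equalizerSieve_mem (Opens.grothendieckTopology X) χ (ψ.app _ s) (ψ.app _ s') hss' x hx
    obtain ⟨Y, hxY, hYW, hY⟩ := hc W hxW
    refine ⟨Y, homOfLE hYW ≫ i, ?_, hxY⟩
    show P.map (homOfLE hYW ≫ i).op s = P.map (homOfLE hYW ≫ i).op s'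
    apply hY.1
    rw [NatTrans.naturality_apply, NatTrans.naturality_apply, op_comp, Functor.map_comp]
    exact congrArg (R.map (homOfLE hYW).op) hW
  · constructor
    intro U q x hx
    obtain ⟨R, ψ, χ, rfl, -, hs, hc⟩ := h x
    haveI := hs
    obtain ⟨W, i, ⟨r, hr⟩, hxW⟩ := Presheaf.imageSieve_mem (Opens.grothendieckTopology X) χ (U := op U) q x hx
    obtain ⟨Y, hxY, hYW, hY⟩ := hc W hxW
    obtain ⟨p, hp⟩ := hY.2 (R.map (homOfLE hYW).op r)
    refine ⟨Y, homOfLE hYW ≫ i, ⟨p, ?_⟩, hxY⟩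
    show χ.app _ (ψ.app _ p) = Q.map (homOfLE hYW ≫ i).op q
    rw [hp, NatTrans.naturality_apply, op_comp, Functor.map_comp]
    exact congrArg (Q.map (homOfLE hYW).op) hr

variable [HasDerivedCategory.{w} (CohTop.Ab X)]

theorem isIso_of_pointwise {L L' : DerivedCategory (CohTop.Ab X)} (a : L ⟶ L') (j : ℤ)
    (h : ∀ x : X, ∃ (M : DerivedCategory (CohTop.Ab X)) (a' : L ⟶ M) (b : M ⟶ L'), a = a' ≫ b ∧
      IsIso ((DerivedCategory.homologyFunctor _ j).map b) ∧
      ∀ V : Opens X, x ∈ V → ∃ Y : Opens X, x ∈ Y ∧ Y ≤ V ∧ GenBij a' j Y) :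
    IsIso ((DerivedCategory.homologyFunctor (CohTop.Ab X) j).map a) := by
  obtain ⟨I, hI, ⟨e⟩⟩ := DerLib.KInjUse.exists_iso_Q_kInjective L
  obtain ⟨I', hI', ⟨e'⟩⟩ := DerLib.KInjUse.exists_iso_Q_kInjective L'
  haveI := hI
  haveI := hI'
  obtain ⟨φ, hφ⟩ := DerLib.KInjUse.Q_map_surjective I I' (e.inv ≫ a ≫ e'.hom)
  have hiso : ∀ {P P' : DerivedCategory (CohTop.Ab X)} {K K' : CochainComplex (CohTop.Ab X) ℤ}
      (f : P ⟶ P') (ψ : K ⟶ K') (eP : P ≅ DerivedCategory.Q.obj K)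
      (eP' : P' ≅ DerivedCategory.Q.obj K'), DerivedCategory.Q.map ψ = eP.inv ≫ f ≫ eP'.hom →
      (IsIso ((DerivedCategory.homologyFunctor _ j).map f) ↔ IsIso (homologyMap ψ j)) := by
    intro P P' K K' f ψ eP eP' he
    rw [← isIso_comp_left_iff ((DerivedCategory.homologyFunctor _ j).map eP.inv) (_ : _ ⟶ _),
      ← isIso_comp_right_iff _ ((DerivedCategory.homologyFunctor _ j).map eP'.hom), Category.assoc,
      ← Functor.map_comp, ← Functor.map_comp, ← he]
    exact NatIso.isIso_map_iff (DerivedCategory.homologyFunctorFactors (CohTop.Ab X) j) ψ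
  rw [hiso a φ e e' hφ, isIso_homologyMap_iff]
  refine isLocallyBijective_of_pointwise _ fun x => ?_
  obtain ⟨M, a', b, rfl, hb, hc⟩ := h x
  obtain ⟨I'', hI'', ⟨e''⟩⟩ := DerLib.KInjUse.exists_iso_Q_kInjective M
  haveI := hI''
  obtain ⟨ψ, hψ⟩ := DerLib.KInjUse.Q_map_surjective I I'' (e.inv ≫ a' ≫ e''.hom)
  obtain ⟨χ, hχ⟩ := DerLib.KInjUse.Q_map_surjective I'' I' (e''.inv ≫ b ≫ e'.hom)
  obtain ⟨h₁, h₂⟩ := (isIso_homologyMap_iff χ j).1 ((hiso b χ e'' e' hχ).1 hb)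
  refine ⟨_, hpshMap ψ j, hpshMap χ j, ?_, h₁, h₂, fun V hV => ?_⟩
  · rw [show hpshMap ψ j ≫ hpshMap χ j = hpshMap (ψ ≫ χ) j by
      simp only [hpshMap, Functor.map_comp, homologyMap_comp]]
    refine hpshMap_eq_of_Q ?_ j
    rw [Functor.map_comp, hψ, hχ, hφ]
    simp
  · obtain ⟨Y, hxY, hYV, hY⟩ := hc V hV
    refine ⟨Y, hxY, hYV, (bijAt_iff ψ j Y).2 ?_⟩
    rw [hψ]
    have hb' : Function.Bijective fun x : dgen (Opens.grothendieckTopology X) Y j ⟶ DerivedCategory.Q.obj I =>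
        ((x ≫ e.inv) ≫ a') ≫ e''.hom := by
      have h1 := (Iso.homCongr (Iso.refl (dgen (Opens.grothendieckTopology X) Y j)) e'').bijective
      have h2 := (Iso.homCongr (Iso.refl (dgen (Opens.grothendieckTopology X) Y j)) e.symm).bijective
      have := h1.comp (hY.comp h2)
      convert this using 1
      funext x
      simp
    simp only [Category.assoc] at hb'
    exact hb'


theorem isIso_homology_rlim_pointwise
    (K : ℕ → DerivedCategory (CohTop.Ab X)) (t : ∀ n, K (n + 1) ⟶ K n) [HasProduct K]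
    (L : DerivedCategory (CohTop.Ab X)) (a : ∀ n, L ⟶ K n) (hL : CohCx.IsRlimVia K t L a) (j : ℤ)
    (n₁ : ℕ) (hconst : ∀ n, n₁ ≤ n → IsIso ((homologyFunctor (CohTop.Ab X) j).map (t n)))
    (h : ∀ x : X, ∃ n₀ : ℕ, ∀ V : Opens X, x ∈ V → ∃ Y : Opens X, x ∈ Y ∧ Y ≤ V ∧ ∀ n, n₀ ≤ n →
      GenBij (t n) j Y ∧
        Function.Surjective fun x : (dgen (Opens.grothendieckTopology X) Y j)⟦(1 : ℤ)⟧ ⟶ K (n + 1) => x ≫ t n) :
    ∀ n, n₁ ≤ n → IsIso ((homologyFunctor (CohTop.Ab X) j).map (a n)) := by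
  intro n hn
  refine isIso_of_pointwise (a n) j fun x => ?_
  obtain ⟨n₀, h₀⟩ := h x
  have comp : ∀ d, ∃ b : K (n + d) ⟶ K n, a n = a (n + d) ≫ b ∧
      IsIso ((homologyFunctor (CohTop.Ab X) j).map b) := by
    intro d
    induction d with
    | zero => exact ⟨𝟙 _, (Category.comp_id _).symm, inferInstance⟩
    | succ d ih =>
      obtain ⟨b, hb, hb'⟩ := ih
      haveI := hb'
      haveI := hconst (n + d) (by omega)
      refine ⟨t (n + d) ≫ b, ?_, by rw [Functor.map_comp]; infer_instance⟩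
      rw [hb, ← ModCohLib.IsRlimVia.comp_eq hL (n + d), Category.assoc]
      rfl
  obtain ⟨b, hb, hb'⟩ := comp n₀
  refine ⟨_, a (n + n₀), b, hb, hb', fun V hV => ?_⟩
  obtain ⟨Y, hxY, hYV, hY⟩ := h₀ V hV
  exact ⟨Y, hxY, hYV, ModCohLib.IsRlimVia.bijective hL (dgen (Opens.grothendieckTopology X) Y j) n₀ (fun m hm => (hY m hm).1)
    (fun m hm => (hY m hm).2) (n + n₀) (by omega)⟩


theorem isRlimVia_truncTower_pointwise (E : DerivedCategory (CohTop.Ab X))
    [HasProduct (CohCx.truncTower E)]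
    (h : ∀ x : X, ∃ p : ℤ → ℤ, ∀ V : Opens X, x ∈ V → ∃ U : Opens X, x ∈ U ∧ U ≤ V ∧
      ∀ (m : ℤ) (k : ℕ), p m < k → Subsingleton (CohTop.HU (CohCx.HD E (m - k)) k U)) :
    CohCx.IsRlimVia (CohCx.truncTower E) (CohCx.truncTowerMap E) E (CohCx.toTruncTower E) := by
  let K := CohCx.truncTower E
  let t' := CohCx.truncTowerMap E
  obtain ⟨L, i, c, hδ⟩ := distinguished_cocone_triangle₁
    (Pi.lift fun n => Pi.π K n - Pi.π K (n + 1) ≫ t' n)
  let a : ∀ n, L ⟶ K n := fun n => i ≫ Pi.π K n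
  have hi : i = Pi.lift a := Limits.Pi.hom_ext _ _ fun n => by simp [a]
  rw [hi] at hδ
  have hL : CohCx.IsRlimVia K t' L a := ⟨c, hδ⟩
  have hzero : Pi.lift (CohCx.toTruncTower E) ≫
      Pi.lift (fun n => Pi.π K n - Pi.π K (n + 1) ≫ t' n) = 0 :=
    Limits.Pi.hom_ext _ _ fun n => by
      simp only [K, t', Category.assoc, Pi.lift_π, zero_comp, Preadditive.comp_sub, Pi.lift_π_assoc]
      exact sub_eq_zero.2 (ModCohLib.toTruncTower_comp E n).symm
  obtain ⟨φ₀, hφ⟩ := Triangle.coyoneda_exact₂ _ hδ (Pi.lift (CohCx.toTruncTower E)) hzero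
  let φ : E ⟶ L := φ₀
  replace hφ : Pi.lift (CohCx.toTruncTower E) = φ ≫ Pi.lift a := hφ
  have hφa : ∀ n, φ ≫ a n = CohCx.toTruncTower E n := fun n => by
    refine (congrArg (φ ≫ ·) (Pi.lift_π (f := K) a n).symm).trans
      ((Category.assoc _ _ _).symm.trans ?_)
    exact (congrArg (· ≫ Pi.π K n) hφ.symm).trans (Pi.lift_π _ _)
  have key : ∀ j : ℤ, IsIso ((homologyFunctor (CohTop.Ab X) j).map φ) := by
    intro j
    let n₁ : ℕ := (-j).toNat
    have hLn := isIso_homology_rlim_pointwise K t' L a hL j n₁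
      (fun n hn => ModCohLib.isIso_homology_truncTowerMap E n j (by omega)) (fun x => by
        obtain ⟨p, hp⟩ := h x
        refine ⟨(max (p j) (p (j + 1)) - j).toNat, fun V hV => ?_⟩
        obtain ⟨U, hxU, hUV, hU⟩ := hp V hV
        refine ⟨U, hxU, hUV, fun n hn => genBij_truncTowerMap E n U j fun k hk => ?_⟩
        rcases hk with hk | hk
        · have := hU j k (by omega)
          rwa [show j - (k : ℤ) = -(n : ℤ) - 1 by omega] at this
        · have := hU (j + 1) k (by omega)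
          rwa [show j + 1 - (k : ℤ) = -(n : ℤ) - 1 by omega] at this) n₁ le_rfl
    have h1 := ModCohLib.isIso_homology_truncGEπ E (-(n₁ : ℤ)) j (by omega)
    haveI := hLn
    haveI : IsIso ((homologyFunctor (CohTop.Ab X) j).map φ ≫
        (homologyFunctor (CohTop.Ab X) j).map (a n₁)) := by
      rw [← Functor.map_comp, hφa]
      exact h1
    exact IsIso.of_isIso_comp_right _ ((homologyFunctor (CohTop.Ab X) j).map (a n₁))
  haveI hiφ : IsIso φ := (DerivedCategory.isIso_iff (C := CohTop.Ab X) (f := φ)).2 key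
  refine ⟨c ≫ (inv φ)⟦(1 : ℤ)⟧', isomorphic_distinguished _ hδ _
    (Triangle.isoMk _ _ (@asIso _ _ E L φ hiφ) (Iso.refl _) (Iso.refl _) ?_ ?_ ?_)⟩
  · exact (Category.comp_id _).trans hφ
  · exact (Category.comp_id _).trans (Category.id_comp _).symm
  · show (c ≫ (inv φ)⟦(1 : ℤ)⟧') ≫ φ⟦(1 : ℤ)⟧' = 𝟙 _ ≫ c
    rw [Category.assoc, ← Functor.map_comp, IsIso.inv_hom_id, CategoryTheory.Functor.map_id,
      Category.comp_id, Category.id_comp]


end Groth.Agent.AbSiteDerLib
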